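/-
Vectors with small coordinates as packed numbers.
-/
import Cfsg.Agent.Lib.Spor.Leech.Count

set_option autoImplicit false

namespace CfsgLib.Spor.Leech.Census32

open Cfsg

/-- Pack `n` values of `f`, starting at `k`, in base 40503. -/
def pk (f : ℕ → ℕ) : ℕ → ℕ → ℕ
  | _, 0 => 0
  | k, n + 1 => f k + 40503 * pk f (k + 1) n

/-- The offset number. -/
def offs : ℕ := pk (fun _ => 8) 0 24

/-- A vector as a number. -/
def enc (x : GolayPt → ℤ) : ℕ := pk (fun i => (x (idxPt i) + 8).toNat) 0 24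

/-- A number as a vector. -/
def dec (X : ℕ) (p : GolayPt) : ℤ := ((X / 40503 ^ ptIdx p % 40503 : ℕ) : ℤ) - 8

/-- All coordinates fit. -/
def Small (x : GolayPt → ℤ) : Prop := ∀ p, -8 ≤ x p ∧ x p ≤ 8

theorem small_of_norm {x : GolayPt → ℤ} (h : sqNorm x ≤ 64) : Small x := fun p => by
  have := natAbs_le_eight h p
  omega

theorem pk_congr {f g : ℕ → ℕ} : ∀ n k, (∀ i, k ≤ i → i < k + n → f i = g i) → pk f k n = pk g k n
  | 0, _, _ => rfl
  | n + 1, k, h => by
    rw [pk, pk, h k le_rfl (by omega), pk_congr n (k + 1) fun i h1 h2 => h i (by omega) (by omega)]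

theorem pk_add (f g : ℕ → ℕ) : ∀ n k, pk (fun i => f i + g i) k n = pk f k n + pk g k n
  | 0, _ => rfl
  | n + 1, k => by simp only [pk, pk_add f g n (k + 1)]; ring

theorem pk_single (j a : ℕ) : ∀ n k, pk (fun i => if i = j then a else 0) k n =
    if k ≤ j ∧ j < k + n then a * 40503 ^ (j - k) else 0
  | 0, k => by simp [pk]
  | n + 1, k => by
    rw [pk, pk_single j a n (k + 1)]
    by_cases h1 : k = j
    · subst h1; simp
    · rw [if_neg h1, Nat.zero_add]
      by_cases h2 : k + 1 ≤ j ∧ j < k + 1 + n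
      · rw [if_pos h2, if_pos ⟨by omega, by omega⟩, show j - k = j - (k + 1) + 1 by omega, pow_succ]; ring
      · rw [if_neg h2, if_neg (by omega), Nat.mul_zero]

theorem digit_pk {f : ℕ → ℕ} (hf : ∀ i, f i < 40503) : ∀ i n k, i < n → pk f k n / 40503 ^ i % 40503 = f (k + i) := by
  intro i
  induction i with
  | zero =>
    intro n k hn
    obtain ⟨n, rfl⟩ := Nat.exists_eq_succ_of_ne_zero (Nat.pos_iff_ne_zero.1 hn)
    rw [pk, pow_zero, Nat.div_one, Nat.add_mul_mod_self_left, Nat.mod_eq_of_lt (hf k), Nat.add_zero]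
  | succ i ih =>
    intro n k hn
    obtain ⟨n, rfl⟩ := Nat.exists_eq_succ_of_ne_zero (Nat.pos_iff_ne_zero.1 (Nat.lt_of_le_of_lt (Nat.zero_le _) hn))
    rw [pk, pow_succ', ← Nat.div_div_eq_div_mul, Nat.add_mul_div_left _ _ (by norm_num), Nat.div_eq_of_lt (hf k),
      Nat.zero_add, ih n (k + 1) (by omega)]
    congr 1
    omega

theorem dec_enc {x : GolayPt → ℤ} (h : Small x) : dec (enc x) = x := by
  funext p
  have hp := h p
  rw [dec, enc, digit_pk (fun i => by have := h (idxPt i); omega) _ _ _ (ptIdx_lt p), Nat.zero_add, idxPt_ptIdx]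
  omega

theorem enc_inj {x y : GolayPt → ℤ} (hx : Small x) (hy : Small y) (h : enc x = enc y) : x = y := by
  rw [← dec_enc hx, ← dec_enc hy, h]

theorem pk_mod (f : ℕ → ℕ) : ∀ n k, pk f k n % 40502 = (∑ i ∈ Finset.Ico k (k + n), f i) % 40502
  | 0, k => by simp [pk]
  | n + 1, k => by
    have ih := pk_mod f n (k + 1)
    rw [Finset.sum_eq_sum_Ico_succ_bot (by omega : k < k + (n + 1)), show k + (n + 1) = k + 1 + n by omega, pk]
    omega

end CfsgLib.Spor.Leech.Census32
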