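/-
All minimal vectors as packed numbers, and counting by products with fixed vectors.
-/
import Cfsg.Agent.Lib.Spor.Leech.Census.Packed
import Cfsg.Agent.Lib.Spor.Leech.Census.Tables
import Cfsg.Agent.Lib.Spor.Leech.Pairs

set_option autoImplicit false

namespace CfsgLib.Spor.Leech.Census32

open Cfsg

/-- A cheaper map. -/
noncomputable def fmap {α β : Type} (f : α → β) : List α → List β := List.rec [] fun a _ r => f a :: r

/-- A cheaper concatenation. -/
noncomputable def fapp {α : Type} (l m : List α) : List α := List.rec m (fun a _ r => a :: r) l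

/-- A cheaper flattening. -/
noncomputable def fflat {α β : Type} (f : α → List β) : List α → List β := List.rec [] fun a _ r => fapp (f a) r

/-- A cheaper selection. -/
noncomputable def fsel {α : Type} (p : α → Bool) : List α → List α :=
  List.rec [] fun a _ r => Bool.rec r (a :: r) (p a)

theorem fmap_eq {α β : Type} (f : α → β) (l : List α) : fmap f l = l.map f := by
  induction l with
  | nil => rfl
  | cons a l ih => simp only [fmap, List.map_cons] at ih ⊢; rw [ih]

theorem fapp_eq {α : Type} (l m : List α) : fapp l m = l ++ m := by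
  induction l with
  | nil => rfl
  | cons a l ih => simp only [fapp, List.cons_append] at ih ⊢; rw [ih]

theorem fflat_eq {α β : Type} (f : α → List β) (l : List α) : fflat f l = l.flatMap f := by
  induction l with
  | nil => rfl
  | cons a l ih => simp only [fflat, List.flatMap_cons, fapp_eq] at ih ⊢; rw [ih]

theorem fsel_eq {α : Type} (p : α → Bool) (l : List α) : fsel p l = l.filter p := by
  induction l with
  | nil => rfl
  | cons a l ih =>
    simp only [fsel, List.filter_cons] at ih ⊢
    rw [ih]
    cases p a <;> simp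

/-- The vectors with one three and a given code word. -/
noncomputable def oddBlock (cb : ℕ × ℕ) : List ℕ :=
  fmap (fun d : ℕ × ℕ => Bool.rec (Nat.add cb.2 d.2) (Nat.sub cb.2 d.2) (Nat.beq (Nat.land cb.1 d.1) 0)) pwTab

/-- All ways to subtract an even number of the steps, given the parity so far. -/
noncomputable def evens : List ℕ → Bool → ℕ → List ℕ :=
  List.rec (fun par acc => Bool.rec [acc] [] par)
    fun d _ r par acc => fapp (r par acc) (r (Bool.not par) (Nat.sub acc d))

/-- The vectors on one octad. -/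
noncomputable def octBlock (t : ℕ × List ℕ) : List ℕ := evens t.2 false t.1

/-- All minimal vectors. -/
noncomputable def all32 : List ℕ :=
  fapp (fflat (fflat oddBlock) oddTab) (fapp (fflat (fflat octBlock) octTab) (fflat id fourTab))

theorem oddTab_eq : oddTab.flatten = codeList.map fun c => (c, pk (fun i => if c.testBit i then 7 else 9) 0 24) :=
  eq_of_beq (by decide +kernel)

theorem octTab_eq : octTab.flatten = (codeList.filter fun m => pop 24 m == 8).map fun o =>
    (pk (fun i => if o.testBit i then 10 else 8) 0 24,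
      ((List.range 24).filter fun i => o.testBit i).map fun i => 4 * 40503 ^ i) := by
  decide +kernel

theorem pwTab_eq : pwTab = (List.range 24).map fun j => (2 ^ j, 4 * 40503 ^ j) := by decide +kernel

theorem fourTab_eq : fourTab.flatten = (List.range 24).flatMap fun i =>
    ((List.range 24).filter fun j => decide (i < j)).flatMap fun j =>
      [(12, 12), (12, 4), (4, 12), (4, 4)].map fun ab : ℕ × ℕ =>
        pk (fun l => if l = i then ab.1 else if l = j then ab.2 else 8) 0 24 := by decide +kernel

theorem mem_all32 {X : ℕ} : X ∈ all32 ↔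
    (∃ cb ∈ oddTab.flatten, X ∈ oddBlock cb) ∨ (∃ t ∈ octTab.flatten, X ∈ octBlock t) ∨ X ∈ fourTab.flatten := by
  simp only [all32, fapp_eq, fflat_eq, List.mem_append, List.mem_flatMap, List.mem_flatten, id_eq]
  grind

theorem mem_oddBlock {c j : ℕ} (hj : j < 24) :
    pk (fun i => if c.testBit i then (if i = j then 11 else 7) else (if i = j then 5 else 9)) 0 24
      ∈ oddBlock (c, pk (fun i => if c.testBit i then 7 else 9) 0 24) := by
  rw [oddBlock, fmap_eq, pwTab_eq, List.map_map]
  refine List.mem_map.2 ⟨j, List.mem_range.2 hj, ?_⟩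
  have hs := pk_single j 4 24 0
  rw [if_pos ⟨Nat.zero_le j, by omega⟩, Nat.sub_zero] at hs
  simp only [Function.comp_apply]
  cases hb : c.testBit j
  · rw [show Nat.beq (Nat.land c (2 ^ j)) 0 = true from by
      rw [Nat.beq_eq]; show c &&& 2 ^ j = 0
      rw [Nat.and_two_pow, hb]; simp]
    have e : pk (fun i => if c.testBit i then (if i = j then 11 else 7) else (if i = j then 5 else 9)) 0 24 +
        4 * 40503 ^ j = pk (fun i => if c.testBit i then 7 else 9) 0 24 := by
      rw [← hs, ← pk_add]
      refine pk_congr 24 0 fun i _ _ => ?_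
      by_cases h : i = j
      · subst h; simp [hb]
      · simp [h]
    show Nat.sub _ _ = _
    rw [Nat.sub_eq]
    omega
  · rw [show Nat.beq (Nat.land c (2 ^ j)) 0 = false from Bool.eq_false_iff.2 fun h => by
      rw [Nat.beq_eq] at h
      have h' : c &&& 2 ^ j = 0 := h
      rw [Nat.and_two_pow, hb] at h'; simp at h']
    show Nat.add _ _ = _
    rw [Nat.add_eq, ← hs, ← pk_add]
    refine pk_congr 24 0 fun i _ _ => ?_
    by_cases h : i = j
    · subst h; simp [hb]
    · simp [h]

theorem mem_evens : ∀ (ds : List ℕ) (s : List ℕ) (par : Bool) (acc : ℕ), s.Sublist ds →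
    (xor par (decide (s.length % 2 = 1))) = false → acc - s.sum ∈ evens ds par acc
  | [], s, par, acc, hs, hp => by
    obtain rfl := List.sublist_nil.1 hs
    simp at hp
    simp [evens, hp]
  | d :: ds, s, par, acc, hs, hp => by
    show _ ∈ fapp (evens ds par acc) (evens ds (!par) (acc - d))
    rw [fapp_eq, List.mem_append]
    rcases List.sublist_cons_iff.1 hs with h | ⟨r, rfl, h⟩
    · exact Or.inl (mem_evens ds s par acc h hp)
    · refine Or.inr ?_
      have := mem_evens ds r (!par) (acc - d) h (by
        rw [← hp, List.length_cons]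
        rcases Nat.mod_two_eq_zero_or_one r.length with e | e <;> cases par <;> simp [e, Nat.add_mod])
      rw [List.sum_cons, ← Nat.sub_sub]
      exact this

theorem sum_steps (p : ℕ → Bool) : ∀ n k, (((List.range' k n).filter p).map fun i => 4 * 40503 ^ (i - k)).sum
    = pk (fun i => if p i then 4 else 0) k n
  | 0, k => by simp [pk]
  | n + 1, k => by
    have ih := sum_steps p n (k + 1)
    rw [pk, ← ih, List.range'_succ]
    have e : (((List.range' (k + 1) n).filter p).map fun i => 4 * 40503 ^ (i - k)).sum =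
        40503 * (((List.range' (k + 1) n).filter p).map fun i => 4 * 40503 ^ (i - (k + 1))).sum := by
      rw [← List.sum_map_mul_left]
      refine congrArg List.sum (List.map_congr_left fun i hi => ?_)
      have := (List.mem_range'_1.1 (List.mem_filter.1 hi).1).1
      rw [show i - k = i - (k + 1) + 1 by omega, pow_succ]; ring
    cases hp : p k <;> simp [hp, List.filter_cons, e]

theorem enc_mkVec (a b r : ℕ) (A B M : Finset GolayPt) :
    enc (mkVec a b r A B M) = pk (fun i => ((if idxPt i ∈ M then -(mag a b r A B (idxPt i) : ℤ)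
      else (mag a b r A B (idxPt i) : ℤ)) + 8).toNat) 0 24 := rfl

theorem enc_mem_all32 {x : GolayPt → ℤ} (hx : x ∈ leechLattice) (hn : sqNorm x = 32) : enc x ∈ all32 := by
  have h : x ∈ {x : GolayPt → ℤ | x ∈ leechLattice ∧ sqNorm x = 32} := ⟨hx, hn⟩
  rw [set32] at h
  rw [mem_all32]
  rcases h with (⟨-, h⟩ | ⟨-, h⟩) | ⟨-, h⟩
  · refine Or.inr (Or.inr ?_)
    rw [fourTab_eq]
    obtain ⟨p, q, hpq, e⟩ := Finset.card_eq_two.1 h.1
    have key : ∀ {p q : GolayPt}, ptIdx p < ptIdx q → lvl x 4 = {p, q} → enc x ∈ (List.range 24).flatMap fun i =>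
          ((List.range 24).filter fun j => decide (i < j)).flatMap fun j =>
            [(12, 12), (12, 4), (4, 12), (4, 4)].map fun ab : ℕ × ℕ =>
              pk (fun l => if l = i then ab.1 else if l = j then ab.2 else 8) 0 24 := by
      intro p q hlt e
      have hp : (x p).natAbs = 4 := mem_lvl.1 (e ▸ Finset.mem_insert_self p {q})
      have hq : (x q).natAbs = 4 := mem_lvl.1 (e ▸ Finset.mem_insert_of_mem (Finset.mem_singleton_self q))
      have h0 : ∀ r, r ≠ p → r ≠ q → x r = 0 := fun r h1 h2 => by
        have hr := natAbs_shape (by norm_num) (by norm_num) (by norm_num) h r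
        have : (x r).natAbs ≠ 4 := fun h' => by
          have := e ▸ mem_lvl.2 h'
          simp [h1, h2] at this
        omega
      refine List.mem_flatMap.2 ⟨ptIdx p, List.mem_range.2 (ptIdx_lt p), List.mem_flatMap.2 ⟨ptIdx q,
        List.mem_filter.2 ⟨List.mem_range.2 (ptIdx_lt q), by simpa using hlt⟩, List.mem_map.2
          ⟨((x p + 8).toNat, (x q + 8).toNat), ?_, ?_⟩⟩⟩
      · rcases (by omega : x p = 4 ∨ x p = -4) with a | a <;> rcases (by omega : x q = 4 ∨ x q = -4) with b | b <;>
          rw [a, b] <;> decide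
      · refine pk_congr 24 0 fun i _ hi => ?_
        rcases eq_or_ne i (ptIdx p) with rfl | h1
        · simp [idxPt_ptIdx]
        rcases eq_or_ne i (ptIdx q) with rfl | h2
        · simp [idxPt_ptIdx, h1]
        rw [if_neg h1, if_neg h2, h0 (idxPt i) (fun e => h1 (by rw [← e, ptIdx_idxPt i (by omega)]))
          (fun e => h2 (by rw [← e, ptIdx_idxPt i (by omega)]))]
        rfl
    rcases lt_trichotomy (ptIdx p) (ptIdx q) with hlt | heq | hlt
    · exact key hlt e
    · exact absurd (ptIdx_injective heq) hpq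
    · exact key hlt (e.trans (Finset.pair_comm p q))
  · refine Or.inr (Or.inl ?_)
    have e := eq_mkVec (by norm_num) (by norm_num) (by norm_num) h
    have hB : lvl x 4 = ∅ := Finset.card_eq_zero.1 h.2.1
    rw [hB] at e
    obtain ⟨h1, h2⟩ := (even_mem_iff (by norm_num) (by norm_num) (Finset.disjoint_empty_right _) _).1 (e ▸ hx)
    have hmag : ∀ i, mag 2 4 0 (lvl x 2) ∅ i = if i ∈ lvl x 2 then 2 else 0 := fun i => by simp [mag]
    rw [show (Finset.univ.filter fun i => mag 2 4 0 (lvl x 2) ∅ i % 4 = 2) = lvl x 2 by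
      ext i; simp only [Finset.mem_filter, Finset.mem_univ, true_and, hmag]; by_cases hi : i ∈ lvl x 2 <;> simp [hi]] at h1
    obtain ⟨w, hw, ew⟩ := h1
    obtain ⟨m, hm, rfl⟩ := exists_codeList hw
    rw [support₂_word] at ew
    have h8 : pop 24 m = 8 := by rw [← card_pts, ew]; exact h.1
    refine ⟨_, octTab_eq ▸ List.mem_map.2 ⟨m, List.mem_filter.2 ⟨hm, by simp [h8]⟩, rfl⟩, ?_⟩
    have hxv : ∀ i, if m.testBit (ptIdx i) then x i = 2 ∨ x i = -2 else x i = 0 := fun i => by
      have := natAbs_shape (by norm_num) (by norm_num) (by norm_num) h i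
      split_ifs with hb
      · have h2 : i ∈ lvl x 2 := ew ▸ mem_pts.2 hb
        rw [mem_lvl] at h2; omega
      · have h2 : ¬ (x i).natAbs = 2 := fun h' => hb (mem_pts.1 (ew ▸ mem_lvl.2 h'))
        omega
    let neg : ℕ → Bool := fun i => decide ((x (idxPt i) + 8).toNat = 6)
    have hsub : (((List.range' 0 24).filter neg).map fun i => 4 * 40503 ^ (i - 0)).Sublist
        (((List.range 24).filter fun i => m.testBit i).map fun i => 4 * 40503 ^ i) := by
      rw [List.range_eq_range']
      simp only [Nat.sub_zero]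
      refine List.Sublist.map _ ?_
      have e : (List.range' 0 24).filter neg = ((List.range' 0 24).filter fun i => m.testBit i).filter neg := by
        rw [List.filter_filter]
        refine List.filter_congr fun i hi => ?_
        have := hxv (idxPt i)
        rw [ptIdx_idxPt i (by have := (List.mem_range'_1.1 hi).2; omega)] at this
        cases hb : m.testBit i
        · rw [hb, if_neg (by decide)] at this
          have h0 : neg i = false := decide_eq_false (by omega)
          simp only [h0, Bool.false_and]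
        · simp only [Bool.and_true]
      rw [e]
      exact List.filter_sublist
    have hev := mem_evens _ _ false (pk (fun i => if m.testBit i then 10 else 8) 0 24) hsub
    rw [sum_steps, List.length_map] at hev
    have hencx : pk (fun i => if m.testBit i then 10 else 8) 0 24 - pk (fun i => if neg i then 4 else 0) 0 24 = enc x := by
      have : enc x + pk (fun i => if neg i then 4 else 0) 0 24 = pk (fun i => if m.testBit i then 10 else 8) 0 24 := by
        rw [enc, ← pk_add]
        refine pk_congr 24 0 fun i _ hi => ?_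
        have := hxv (idxPt i)
        rw [ptIdx_idxPt i (by omega)] at this
        show (x (idxPt i) + 8).toNat + (if decide ((x (idxPt i) + 8).toNat = 6) = true then 4 else 0) = _
        simp only [decide_eq_true_eq]
        split_ifs at this ⊢ <;> omega
      omega
    rw [hencx] at hev
    refine hev ?_
    rw [← List.countP_eq_length_filter]
    have hneg : ((List.range' 0 24).countP fun i => decide ((x (idxPt i) + 8).toNat = 6)) =
        ((lvl x 2) ∩ Finset.univ.filter fun i => x i < 0).card := by
      set N := (lvl x 2) ∩ Finset.univ.filter fun i => x i < 0 with hN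
      rw [← pts_maskPts N, card_pts, pop, ← List.range_eq_range']
      refine List.countP_congr fun i hi => ?_
      have hb := testBit_maskPts N (idxPt i)
      rw [ptIdx_idxPt i (List.mem_range.1 hi)] at hb
      rw [hb, decide_eq_true_eq, decide_eq_true_eq, hN, Finset.mem_inter, mem_lvl, Finset.mem_filter]
      simp only [Finset.mem_univ, true_and]
      omega
    have hsum : ∑ i ∈ Finset.univ.filter (fun i => x i < 0), (mag 2 4 0 (lvl x 2) ∅ i : ℤ) =
        2 * (((lvl x 2) ∩ Finset.univ.filter fun i => x i < 0).card : ℤ) := by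
      rw [Finset.sum_congr rfl fun i _ => show (mag 2 4 0 (lvl x 2) ∅ i : ℤ) = if i ∈ lvl x 2 then 2 else 0 by
        rw [hmag]; split_ifs <;> rfl, Finset.sum_ite_mem, Finset.sum_const, nsmul_eq_mul, Finset.inter_comm]
      ring
    have h8' : (lvl x 2).card = 8 := h.1
    rw [hsum, h8', Finset.card_empty] at h2
    simp only [Bool.false_xor, decide_eq_false_iff_not, neg]
    rw [hneg]
    push_cast at h2
    omega
  · refine Or.inl ?_
    have e := eq_mkVec (by norm_num) (by norm_num) (by norm_num) h
    have hB : lvl x 5 = ∅ := Finset.card_eq_zero.1 h.2.1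
    obtain ⟨p, hp⟩ := Finset.card_eq_one.1 h.1
    rw [hB, hp] at e
    generalize Finset.univ.filter (fun i => x i < 0) = M at e
    subst e
    obtain ⟨w, hw, ew⟩ := (odd_mem_iff (Finset.disjoint_empty_right _) (by simp) M).1 hx
    obtain ⟨m, hm, rfl⟩ := exists_codeList hw
    rw [support₂_word] at ew
    refine ⟨_, oddTab_eq ▸ List.mem_map.2 ⟨m, hm, rfl⟩, ?_⟩
    rw [enc_mkVec]
    convert mem_oddBlock (c := m) (ptIdx_lt p) using 1
    refine pk_congr 24 0 fun i _ hi => ?_
    have hi' : i < 24 := by omega
    have hbit : m.testBit i = true ↔ (idxPt i ∈ symmDiff ({p} : Finset GolayPt) M) := by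
      rw [← ew, mem_pts, ptIdx_idxPt i hi']
    have hip : (i = ptIdx p) ↔ idxPt i = p := ⟨fun e => by rw [e, idxPt_ptIdx], fun e => by
      rw [← e, ptIdx_idxPt i hi']⟩
    simp only [Finset.mem_symmDiff, Finset.mem_singleton] at hbit
    simp only [mag, Finset.mem_singleton, Finset.notMem_empty, if_false]
    by_cases h1 : idxPt i = p <;> by_cases h2 : idxPt i ∈ M <;> cases h3 : m.testBit i <;>
      simp [h1, h2, h3, hip] at hbit ⊢ <;> simp [hbit]

theorem length_all32 : all32.length = 196560 := by decide +kernel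

theorem all32_spec : all32.Nodup ∧ ∀ X ∈ all32, ∃ x : GolayPt → ℤ, x ∈ leechLattice ∧ sqNorm x = 32 ∧ enc x = X := by
  classical
  set S := {x : GolayPt → ℤ | x ∈ leechLattice ∧ sqNorm x = 32}
  have hinj : Set.InjOn enc S := fun x hx y hy e =>
    enc_inj (small_of_norm (by rw [hx.2]; norm_num)) (small_of_norm (by rw [hy.2]; norm_num)) e
  have hsub : enc '' S ⊆ ↑all32.toFinset := by
    rintro _ ⟨x, hx, rfl⟩
    exact List.mem_toFinset.2 (enc_mem_all32 hx.1 hx.2)
  have hcard : (enc '' S).ncard = 196560 := by rw [Set.InjOn.ncard_image hinj]; exact ncard32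
  have h1 : all32.toFinset.card ≤ 196560 := length_all32 ▸ List.toFinset_card_le all32
  have h2 : 196560 ≤ all32.toFinset.card := by
    rw [← hcard, ← Set.ncard_coe_finset all32.toFinset]
    exact Set.ncard_le_ncard hsub (Finset.finite_toSet _)
  have heq := Set.eq_of_subset_of_ncard_le hsub (by rw [hcard, Set.ncard_coe_finset]; exact h1) (Finset.finite_toSet _)
  refine ⟨?_, fun X hX => ?_⟩
  · rw [List.card_toFinset] at h2
    have := length_all32
    exact (List.dedup_sublist all32).eq_of_length (by have := (List.dedup_sublist all32).length_le; omega) ▸ List.nodup_dedup _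
  · obtain ⟨x, hx, e⟩ := heq ▸ (Finset.mem_coe.2 (List.mem_toFinset.2 hX))
    exact ⟨x, hx.1, hx.2, e⟩

/-- The code of a vector for multiplication. -/
def rev (u : GolayPt → ℤ) : ℕ := pk (fun i => (u (idxPt (23 - i)) + 8).toNat) 0 24

/-- The comparison number. -/
def cmp (u : GolayPt → ℤ) (n : ℤ) : ℕ := (n + 8 * ∑ p, u p + 4096).toNat

/-- The weight of the middle digit. -/
def top : ℕ := 9380055664745750270469610971163878529313863693690064849184164596969533060107362830413721397425243893712327

/-- The product test. -/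
def test (t : ℕ × ℕ) (X : ℕ) : Bool :=
  Nat.beq (Nat.add 4096 (Nat.mod (Nat.div (Nat.mul t.1 X) top) 40503))
    (Nat.add (Nat.mul 8 (Nat.mod X 40502)) t.2)

theorem middle {f g : ℕ → ℕ} (hf : ∀ i, f i ≤ 16) (hg : ∀ i, g i ≤ 16) :
    pk f 0 24 * pk g 0 24 / 40503 ^ 23 % 40503 = ∑ i ∈ Finset.range 24, f i * g (23 - i) := by
  have hpk : ∀ (f : ℕ → ℕ) n k, pk f k n = ∑ i ∈ Finset.range n, f (k + i) * 40503 ^ i := by
    intro f n
    induction n with
    | zero => intro k; simp [pk]
    | succ n ih =>
      intro k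
      rw [pk, ih, Finset.sum_range_succ', Finset.mul_sum, pow_zero, mul_one, Nat.add_zero, add_comm]
      congr 1
      refine Finset.sum_congr rfl fun i _ => ?_
      rw [pow_succ, show k + (i + 1) = k + 1 + i by omega]; ring
  rw [hpk, hpk, Finset.sum_mul_sum, ← Finset.sum_product']
  set S := Finset.range 24 ×ˢ Finset.range 24 with hS
  set t : ℕ × ℕ → ℕ := fun p => f (0 + p.1) * 40503 ^ p.1 * (g (0 + p.2) * 40503 ^ p.2) with ht
  have hmap : ∀ p ∈ S, p.1 + p.2 ∈ Finset.range 47 := fun p hp => by
    simp only [hS, Finset.mem_product, Finset.mem_range] at hp ⊢; omega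
  rw [← Finset.sum_fiberwise_of_maps_to hmap, show (47 : ℕ) = 23 + (1 + 23) from rfl, Finset.sum_range_add,
    Finset.sum_range_add, Finset.sum_range_one]
  have hfib : ∀ s, ∑ p ∈ S.filter (fun p => p.1 + p.2 = s), t p =
      (∑ p ∈ S.filter (fun p => p.1 + p.2 = s), f p.1 * g p.2) * 40503 ^ s := fun s => by
    rw [Finset.sum_mul]
    refine Finset.sum_congr rfl fun p hp => ?_
    rw [← (Finset.mem_filter.1 hp).2, pow_add, ht]
    simp only [Nat.zero_add]; ring
  have hc : ∀ s, ∑ p ∈ S.filter (fun p => p.1 + p.2 = s), f p.1 * g p.2 ≤ 6144 := fun s => by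
    refine (Finset.sum_le_card_nsmul _ _ 256 fun p _ => Nat.mul_le_mul (hf p.1) (hg p.2)).trans ?_
    have hle : (S.filter fun p => p.1 + p.2 = s).card ≤ 24 := by
      refine (Finset.card_le_card_of_injOn Prod.fst (fun p hp => ?_) fun p hp q hq e => ?_).trans (Finset.card_range 24).le
      · exact (Finset.mem_product.1 (Finset.mem_filter.1 hp).1).1
      · have h1 := (Finset.mem_filter.1 hp).2
        have h2 := (Finset.mem_filter.1 hq).2
        exact Prod.ext e (by omega)
    rw [smul_eq_mul]
    omega
  have hlow : ∑ s ∈ Finset.range 23, ∑ p ∈ S.filter (fun p => p.1 + p.2 = s), t p < 40503 ^ 23 :=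
    lt_of_le_of_lt (Finset.sum_le_sum fun s _ => (hfib s).trans_le (Nat.mul_le_mul_right _ (hc s))) (by decide +kernel)
  obtain ⟨H, hH⟩ : 40503 ∣ ∑ s ∈ Finset.range 23, (∑ p ∈ S.filter (fun p => p.1 + p.2 = 23 + (1 + s)), f p.1 * g p.2) *
      40503 ^ (1 + s) := Finset.dvd_sum fun s _ => Dvd.dvd.mul_left (dvd_pow_self _ (by omega)) _
  have hhigh : ∑ s ∈ Finset.range 23, ∑ p ∈ S.filter (fun p => p.1 + p.2 = 23 + (1 + s)), t p =
      40503 * H * 40503 ^ 23 := by
    rw [← hH, Finset.sum_mul]
    exact Finset.sum_congr rfl fun s _ => by rw [hfib, pow_add]; ring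
  rw [hhigh, hfib (23 + 0), Nat.add_zero, ← Nat.add_mul, Nat.add_mul_div_right _ _ (by norm_num),
    Nat.div_eq_of_lt hlow, Nat.zero_add, Nat.add_mul_mod_self_left,
    Nat.mod_eq_of_lt (lt_of_le_of_lt (hc 23) (by norm_num))]
  refine Finset.sum_bij' (fun p _ => p.1) (fun i _ => (i, 23 - i)) ?_ ?_ ?_ ?_ ?_
  · intro p hp; exact (Finset.mem_product.1 (Finset.mem_filter.1 hp).1).1
  · intro i hi
    simp only [hS, Finset.mem_range] at hi
    simp only [hS, Finset.mem_filter, Finset.mem_product, Finset.mem_range]; omega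
  · intro p hp
    have := (Finset.mem_filter.1 hp).2
    exact Prod.ext rfl (show 23 - p.1 = p.2 by omega)
  · intro i _; rfl
  · intro p hp
    have := (Finset.mem_filter.1 hp).2
    rw [show 23 - p.1 = p.2 by omega]

theorem test_enc {u x : GolayPt → ℤ} (hu : Small u) (hx : Small x) (n : ℤ) (hn : 0 ≤ n + 8 * ∑ p, u p + 4096) :
    test (rev u, cmp u n) (enc x) = true ↔ dotInt u x = n := by
  have h1 : ∀ i, (x (idxPt i) + 8).toNat ≤ 16 := fun i => by have := hx (idxPt i); omega
  have hpt : ∀ F : GolayPt → ℤ, ∑ p, F p = ∑ i ∈ Finset.range 24, F (idxPt i) := fun F =>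
    Finset.sum_bij' (fun p _ => ptIdx p) (fun i _ => idxPt i) (fun p _ => Finset.mem_range.2 (ptIdx_lt p))
      (fun i _ => Finset.mem_univ _) (fun p _ => idxPt_ptIdx p)
      (fun i hi => ptIdx_idxPt i (Finset.mem_range.1 hi)) fun p _ => by rw [idxPt_ptIdx]
  rw [test, Nat.beq_eq]
  show 4096 + rev u * enc x / top % 40503 = 8 * (enc x % 40502) + cmp u n ↔ _
  rw [show top = 40503 ^ 23 by decide +kernel, mul_comm (rev u) (enc x), rev, enc,
    middle h1 (fun i => by have := hu (idxPt (23 - i)); omega), pk_mod, Nat.zero_add, ← Finset.range_eq_Ico,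
    Nat.mod_eq_of_lt (lt_of_le_of_lt (Finset.sum_le_card_nsmul _ _ 16 fun i _ => h1 i) (by simp))]
  have e1 : ((∑ i ∈ Finset.range 24, (x (idxPt i) + 8).toNat * (u (idxPt (23 - (23 - i))) + 8).toNat : ℕ) : ℤ) =
      dotInt u x + 8 * ∑ p, x p + (8 * ∑ p, u p + 1536) := by
    rw [dotInt, hpt, hpt x, hpt u, Nat.cast_sum, Finset.mul_sum, Finset.mul_sum,
      show (1536 : ℤ) = ∑ i ∈ Finset.range 24, 64 by simp, ← Finset.sum_add_distrib, ← Finset.sum_add_distrib,
      ← Finset.sum_add_distrib]
    refine Finset.sum_congr rfl fun i hi => ?_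
    rw [show 23 - (23 - i) = i from Nat.sub_sub_self (by simp at hi; omega), Nat.cast_mul,
      Int.toNat_of_nonneg (by have := hx (idxPt i); omega), Int.toNat_of_nonneg (by have := hu (idxPt i); omega)]
    ring
  have e2 : ((∑ i ∈ Finset.range 24, (x (idxPt i) + 8).toNat : ℕ) : ℤ) = ∑ p, x p + 192 := by
    rw [hpt x, Nat.cast_sum, show (192 : ℤ) = ∑ i ∈ Finset.range 24, 8 by simp, ← Finset.sum_add_distrib]
    exact Finset.sum_congr rfl fun i _ => Int.toNat_of_nonneg (by have := hx (idxPt i); omega)
  have e3 : ((cmp u n : ℕ) : ℤ) = n + 8 * ∑ p, u p + 4096 := Int.toNat_of_nonneg hn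
  omega

/-- Whether the stored numbers of tests are right. -/
def testsOK (T : List ((GolayPt → ℤ) × ℤ)) (C : List (ℕ × ℕ)) : Bool :=
  (T.map fun t => (rev t.1, cmp t.1 t.2)) == C && T.all fun t =>
    decide (∀ p, -8 ≤ t.1 p ∧ t.1 p ≤ 8) && decide (0 ≤ t.2 + 8 * ∑ p, t.1 p + 4096)

/-- All tests, cheaply. -/
noncomputable def passes (C : List (ℕ × ℕ)) (X : ℕ) : Bool := List.rec true (fun t _ r => Bool.rec false r (test t X)) C

/-- The selected numbers. -/
noncomputable def chosen (C : List (ℕ × ℕ)) : List ℕ :=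
  fapp (fflat (fflat fun cb => fsel (passes C) (oddBlock cb)) oddTab)
    (fapp (fflat (fflat fun t => fsel (passes C) (octBlock t)) octTab) (fflat (fsel (passes C)) fourTab))

theorem chosen_eq (C : List (ℕ × ℕ)) : chosen C = all32.filter (passes C) := by
  have hf : ∀ {α β : Type} (f : α → List β), fflat f = fun l => l.flatMap f := fun f => funext (fflat_eq f)
  have hs : ∀ {α : Type} (p : α → Bool), fsel p = fun l => l.filter p := fun p => funext (fsel_eq p)
  simp only [chosen, all32, fapp_eq, hf, hs, List.filter_append, List.filter_flatMap, id_eq]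

theorem passes_eq (C : List (ℕ × ℕ)) (X : ℕ) : passes C X = C.all fun t => test t X := by
  induction C with
  | nil => rfl
  | cons t C ih =>
    simp only [passes, List.all_cons] at ih ⊢
    rw [ih]
    cases test t X <;> rfl

/-- The minimal vectors passing some tests. -/
def pick (T : List ((GolayPt → ℤ) × ℤ)) : Set leechLattice :=
  {x | sqNorm (x : GolayPt → ℤ) = 32 ∧ ∀ t ∈ T, dotInt t.1 x = t.2}

theorem mem_chosen_iff {T : List ((GolayPt → ℤ) × ℤ)} {C : List (ℕ × ℕ)} (hT : testsOK T C = true) {X : ℕ} :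
    X ∈ chosen C ↔ ∃ x ∈ pick T, enc (x : GolayPt → ℤ) = X := by
  simp only [testsOK, Bool.and_eq_true, beq_iff_eq, List.all_eq_true, decide_eq_true_eq] at hT
  obtain ⟨rfl, hs⟩ := hT
  rw [chosen_eq, List.mem_filter, passes_eq]
  simp only [List.all_map, List.all_eq_true, Function.comp_apply]
  constructor
  · rintro ⟨hX, hp⟩
    obtain ⟨x, hx, hn, rfl⟩ := all32_spec.2 X hX
    exact ⟨⟨x, hx⟩, ⟨hn, fun t ht =>
      (test_enc (hs t ht).1 (small_of_norm (by rw [hn]; norm_num)) _ (hs t ht).2).1 (hp t ht)⟩, rfl⟩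
  · rintro ⟨x, ⟨hn, hx⟩, rfl⟩
    exact ⟨enc_mem_all32 x.2 hn, fun t ht =>
      (test_enc (hs t ht).1 (small_of_norm (by rw [hn]; norm_num)) _ (hs t ht).2).2 (hx t ht)⟩

theorem ncard_pick {T : List ((GolayPt → ℤ) × ℤ)} {C : List (ℕ × ℕ)} (hT : testsOK T C = true) :
    (pick T).ncard = (chosen C).length := by
  classical
  have e : (fun x : leechLattice => enc (x : GolayPt → ℤ)) '' pick T = ↑(chosen C).toFinset := by
    ext X
    rw [Finset.mem_coe, List.mem_toFinset, mem_chosen_iff hT]
    rfl
  rw [← List.toFinset_card_of_nodup (chosen_eq C ▸ all32_spec.1.filter _), ← Set.ncard_coe_finset, ← e]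
  exact (Set.InjOn.ncard_image fun x hx y hy h => Subtype.ext
    (enc_inj (small_of_norm (by rw [hx.1]; norm_num)) (small_of_norm (by rw [hy.1]; norm_num)) h)).symm

end CfsgLib.Spor.Leech.Census32
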