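/-
Automorphisms of the lattice as lists of packed columns.
-/
import Cfsg.Agent.Lib.Spor.Leech.Census.List32
import Cfsg.Agent.Lib.Spor.Leech.CrossStab

set_option autoImplicit false

namespace CfsgLib.Spor.Leech.Census32

open Cfsg MulAction

/-- The packed columns, with eight times their sum. -/
abbrev Mat := List ℕ × ℕ

/-- The columns of an automorphism. -/
def IsMat (g : Co0) (C : Mat) : Prop :=
  C.1 = (List.range 24).map (fun i => enc ((g • eight (idxPt i) : leechLattice) : GolayPt → ℤ)) ∧ C.2 = 8 * C.1.sum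

/-- The weighted sum of columns. -/
noncomputable def lin : List ℕ → ℕ → ℕ :=
  List.rec (fun _ => 0) fun c _ r X => Nat.add (Nat.mul (Nat.mod X 40503) c) (r (Nat.div X 40503))

/-- Two hundred offsets. -/
def bias : ℕ := 200 * offs

/-- The offset as a plain number. -/
def offsN : ℕ := 75042298076973408365973167382361477867324956038818566310109371126572909492573900887906169129408849622641920

/-- Two hundred offsets as a plain number. -/
def biasN : ℕ := 15008459615394681673194633476472295573464991207763713262021874225314581898514780177581233825881769924528384000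

/-- The image of a packed vector. -/
noncomputable def step (C : Mat) (X : ℕ) : ℕ :=
  Nat.div (Nat.sub (Nat.add biasN (lin C.1 X)) (Nat.add C.2 (Nat.mul offsN (Nat.mod X 40502)))) 8

theorem offsN_eq : offsN = offs ∧ biasN = 200 * offs := by decide +kernel

theorem pk_eq_sum (f : ℕ → ℕ) : ∀ n k, pk f k n = ∑ i ∈ Finset.range n, f (k + i) * 40503 ^ i
  | 0, k => by simp [pk]
  | n + 1, k => by
    rw [pk, pk_eq_sum f n (k + 1), Finset.sum_range_succ', Finset.mul_sum, pow_zero, mul_one, Nat.add_zero, add_comm]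
    congr 1
    refine Finset.sum_congr rfl fun i _ => ?_
    rw [pow_succ, show k + (i + 1) = k + 1 + i by omega]; ring

theorem lin_pk (h f : ℕ → ℕ) (hh : ∀ i, h i < 40503) : ∀ n k, lin ((List.range' k n).map f) (pk h k n)
    = ∑ i ∈ Finset.range n, h (k + i) * f (k + i)
  | 0, k => by simp [lin]
  | n + 1, k => by
    rw [List.range'_succ, List.map_cons]
    show Nat.add (Nat.mul (Nat.mod (pk h k (n + 1)) 40503) (f k)) (lin ((List.range' (k + 1) n).map f)
      (Nat.div (pk h k (n + 1)) 40503)) = _
    show pk h k (n + 1) % 40503 * f k + lin ((List.range' (k + 1) n).map f) (pk h k (n + 1) / 40503) = _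
    rw [pk, Nat.add_mul_mod_self_left, Nat.mod_eq_of_lt (hh k), Nat.add_mul_div_left _ _ (by norm_num),
      Nat.div_eq_of_lt (hh k), Nat.zero_add, lin_pk h f hh n (k + 1), Finset.sum_range_succ', add_comm, Nat.add_zero]
    congr 1
    exact Finset.sum_congr rfl fun i _ => by rw [show k + (i + 1) = k + 1 + i by omega]

theorem step_enc {g : Co0} {C : Mat} (hg : IsMat g C) {x : leechLattice} (hx : sqNorm (x : GolayPt → ℤ) ≤ 64) :
    step C (enc (x : GolayPt → ℤ)) = enc ((g • x : leechLattice) : GolayPt → ℤ) := by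
  set y := ((g • x : leechLattice) : GolayPt → ℤ) with hy
  have hsx := small_of_norm hx
  have hsy : Small y := small_of_norm (by rw [hy, co0_norm]; exact hx)
  let col : ℕ → GolayPt → ℤ := fun i => ((g • eight (idxPt i) : leechLattice) : GolayPt → ℤ)
  have hsc : ∀ i, Small (col i) := fun i => small_of_norm (by simp only [col, co0_norm, sqNorm_eight]; norm_num)
  have hh : ∀ i, ((x : GolayPt → ℤ) (idxPt i) + 8).toNat ≤ 16 := fun i => by have := hsx (idxPt i); omega
  have hlin : lin C.1 (enc (x : GolayPt → ℤ)) =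
      ∑ i ∈ Finset.range 24, ((x : GolayPt → ℤ) (idxPt i) + 8).toNat * enc (col i) := by
    rw [hg.1, List.range_eq_range', enc, lin_pk _ _ (fun i => lt_of_le_of_lt (hh i) (by norm_num))]
    simp only [Nat.zero_add]
    rfl
  have hsum : C.1.sum = ∑ i ∈ Finset.range 24, enc (col i) := by
    rw [hg.1]
    simp only [col, Finset.sum, Finset.range, Multiset.range, Multiset.map_coe, Multiset.sum_coe]
  have hdig : enc (x : GolayPt → ℤ) % 40502 = ∑ i ∈ Finset.range 24, ((x : GolayPt → ℤ) (idxPt i) + 8).toNat := by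
    rw [enc, pk_mod, Nat.zero_add, ← Finset.range_eq_Ico]
    exact Nat.mod_eq_of_lt (lt_of_le_of_lt (Finset.sum_le_card_nsmul _ _ 16 fun i _ => hh i) (by simp))
  have hF : ∀ z : GolayPt → ℤ, Small z →
      (enc z : ℤ) = (∑ j ∈ Finset.range 24, z (idxPt j) * 40503 ^ j) + (offs : ℤ) := by
    intro z hz
    rw [enc, offs, pk_eq_sum, pk_eq_sum, Nat.cast_sum, Nat.cast_sum, ← Finset.sum_add_distrib]
    refine Finset.sum_congr rfl fun j _ => ?_
    rw [Nat.zero_add, Nat.cast_mul, Nat.cast_mul, Int.toNat_of_nonneg (by have := hz (idxPt j); omega)]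
    push_cast
    ring
  have hcol : ∀ p, ∑ i ∈ Finset.range 24, (x : GolayPt → ℤ) (idxPt i) * col i p = 8 * y p := by
    intro p
    have h8 : (8 : ℤ) • (g • x) = ∑ q, (x : GolayPt → ℤ) q • (g • eight q) := by
      rw [← co0_zsmul, eight_sum]
      have := map_sum (AddMonoidHom.mk' (fun v : leechLattice => g • v) (co0_add g))
        (fun q => (x : GolayPt → ℤ) q • eight q) Finset.univ
      simp only [AddMonoidHom.mk'_apply] at this
      rw [this]
      exact Finset.sum_congr rfl fun q _ => co0_zsmul g _ _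
    have h := congrFun (congrArg Subtype.val h8) p
    rw [AddSubgroup.val_finset_sum, Finset.sum_apply] at h
    simp only [AddSubgroup.coe_zsmul, Pi.smul_apply, smul_eq_mul] at h
    rw [show 8 * y p = 8 * ((g • x : leechLattice) : GolayPt → ℤ) p from rfl, h]
    exact Finset.sum_bij' (fun i _ => idxPt i) (fun q _ => ptIdx q) (fun i _ => Finset.mem_univ _)
      (fun q _ => Finset.mem_range.2 (ptIdx_lt q)) (fun i hi => ptIdx_idxPt i (Finset.mem_range.1 hi))
      (fun q _ => idxPt_ptIdx q) fun i _ => rfl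
  have key : (bias : ℤ) + (lin C.1 (enc (x : GolayPt → ℤ)) : ℤ) =
      (C.2 : ℤ) + (offs : ℤ) * ((enc (x : GolayPt → ℤ) % 40502 : ℕ) : ℤ) + 8 * (enc y : ℤ) := by
    rw [hlin, hdig, hg.2, hsum, bias, hF y hsy]
    push_cast
    rw [Finset.sum_congr rfl (g := fun i => (x : GolayPt → ℤ) (idxPt i) *
        (∑ j ∈ Finset.range 24, col i (idxPt j) * 40503 ^ j) +
        ((x : GolayPt → ℤ) (idxPt i) * (offs : ℤ) + 8 * (enc (col i) : ℤ))) fun i _ => by
          rw [Int.toNat_of_nonneg (by have := hsx (idxPt i); omega), hF _ (hsc i)]; ring,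
      Finset.sum_add_distrib, Finset.sum_add_distrib, ← Finset.mul_sum, ← Finset.sum_mul]
    have e : ∑ i ∈ Finset.range 24, (x : GolayPt → ℤ) (idxPt i) * ∑ j ∈ Finset.range 24, col i (idxPt j) * 40503 ^ j
        = 8 * ∑ j ∈ Finset.range 24, y (idxPt j) * 40503 ^ j := by
      simp only [Finset.mul_sum]
      rw [Finset.sum_comm]
      refine Finset.sum_congr rfl fun j _ => ?_
      rw [Finset.sum_congr rfl fun i _ => show (x : GolayPt → ℤ) (idxPt i) * (col i (idxPt j) * 40503 ^ j) =
        (x : GolayPt → ℤ) (idxPt i) * col i (idxPt j) * 40503 ^ j by ring, ← Finset.sum_mul, hcol]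
      ring
    have e2 : ∑ i ∈ Finset.range 24, (((x : GolayPt → ℤ) (idxPt i) + 8).toNat : ℤ) =
        (∑ i ∈ Finset.range 24, (x : GolayPt → ℤ) (idxPt i)) + 192 := by
      rw [show (192 : ℤ) = ∑ i ∈ Finset.range 24, 8 by simp, ← Finset.sum_add_distrib]
      exact Finset.sum_congr rfl fun i _ => Int.toNat_of_nonneg (by have := hsx (idxPt i); omega)
    rw [e, e2]
    ring
  show (biasN + lin C.1 (enc (x : GolayPt → ℤ)) - (C.2 + offsN * (enc (x : GolayPt → ℤ) % 40502))) / 8 = _
  rw [offsN_eq.1, offsN_eq.2]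
  have key' : bias + lin C.1 (enc (x : GolayPt → ℤ)) =
      C.2 + offs * (enc (x : GolayPt → ℤ) % 40502) + 8 * enc y := by exact_mod_cast key
  rw [bias] at key'
  omega

/-- The product of column lists. -/
noncomputable def compMat (C D : Mat) : Mat :=
  let E := fmap (step C) D.1
  (E, Nat.mul 8 E.sum)

theorem isMat_mul {g h : Co0} {C D : Mat} (hg : IsMat g C) (hh : IsMat h D) : IsMat (g * h) (compMat C D) := by
  refine ⟨?_, rfl⟩
  simp only [compMat]
  rw [fmap_eq, hh.1, List.map_map]
  refine List.map_congr_left fun i _ => ?_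
  rw [Function.comp_apply, step_enc hg (by rw [co0_norm, sqNorm_eight]), mul_smul]

/-- The columns of the identity. -/
def oneMat : Mat :=
  let E := (List.range 24).map fun i => enc (Pi.single (idxPt i) 8)
  (E, 8 * E.sum)

theorem isMat_one : IsMat 1 oneMat := by
  refine ⟨List.map_congr_left fun i _ => ?_, rfl⟩
  rw [one_smul]
  rfl

theorem eq_one_of_mat {g : Co0} (h : IsMat g oneMat) : g = 1 := by
  refine co0_ext fun q => ?_
  have e : (List.range 24).map (fun i => enc ((g • eight (idxPt i) : leechLattice) : GolayPt → ℤ)) =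
      (List.range 24).map fun i => enc (Pi.single (idxPt i) 8) := h.1.symm.trans rfl
  have := List.map_inj_left.1 e (ptIdx q) (List.mem_range.2 (ptIdx_lt q))
  rw [idxPt_ptIdx] at this
  rw [one_smul]
  refine Subtype.ext (enc_inj (small_of_norm ?_) (small_of_norm ?_) this)
  · rw [co0_norm, sqNorm_eight]
  · rw [sqNorm_eight]

/-- The product along a list of indices. -/
noncomputable def wordMat (Ms : List Mat) : List ℕ → Mat :=
  List.rec oneMat fun k _ r => compMat (Ms.getD k oneMat) r

/-- The product of automorphisms along a list of indices. -/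
def wordElt (gs : List Co0) (w : List ℕ) : Co0 := (w.map fun k => gs.getD k 1).prod

theorem isMat_word {gs : List Co0} {Ms : List Mat} (h : ∀ k, IsMat (gs.getD k 1) (Ms.getD k oneMat)) :
    ∀ w, IsMat (wordElt gs w) (wordMat Ms w)
  | [] => isMat_one
  | k :: w => by
    rw [wordElt, List.map_cons, List.prod_cons]
    exact isMat_mul (h k) (isMat_word h w)

/-- Follow a list of indices from a packed vector. -/
noncomputable def walk (Ms : List Mat) (X : ℕ) : List ℕ → ℕ :=
  List.rec X fun k _ r => step (Ms.getD k oneMat) r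

theorem walk_enc {gs : List Co0} {Ms : List Mat} (h : ∀ k, IsMat (gs.getD k 1) (Ms.getD k oneMat)) {x : leechLattice}
    (hx : sqNorm (x : GolayPt → ℤ) ≤ 64) :
    ∀ w, walk Ms (enc (x : GolayPt → ℤ)) w = enc ((wordElt gs w • x : leechLattice) : GolayPt → ℤ)
  | [] => by simp [walk, wordElt]
  | k :: w => by
    show step (Ms.getD k oneMat) (walk Ms (enc (x : GolayPt → ℤ)) w) = _
    rw [walk_enc h hx w, step_enc (h k) (by rw [co0_norm]; exact hx), wordElt, wordElt, List.map_cons, List.prod_cons,
      mul_smul]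

end CfsgLib.Spor.Leech.Census32
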