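/-
Orbits of subgroups of automorphisms on selected sets of minimal vectors.
-/
import Cfsg.Agent.Lib.Spor.Leech.Census.Mat
import Cfsg.Agent.Lib.Spor.Leech.Stabilizers

set_option autoImplicit false

namespace CfsgLib.Spor.Leech.Census32

open Cfsg MulAction

/-- Tests by lattice vectors. -/
def pickL (T : List (leechLattice × ℤ)) : Set leechLattice :=
  {x | sqNorm (x : GolayPt → ℤ) = 32 ∧ ∀ t ∈ T, dotInt (t.1 : GolayPt → ℤ) (x : GolayPt → ℤ) = t.2}

/-- Tests as plain vectors. -/
def plain (T : List (leechLattice × ℤ)) : List ((GolayPt → ℤ) × ℤ) := T.map fun t => ((t.1 : GolayPt → ℤ), t.2)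

theorem pickL_eq (T : List (leechLattice × ℤ)) : pickL T = pick (plain T) := by
  ext x
  simp only [pickL, pick, plain, Set.mem_ofPred_eq, List.forall_mem_map]

theorem ncard_pickL {T : List (leechLattice × ℤ)} {C : List (ℕ × ℕ)} (hT : testsOK (plain T) C = true) :
    (pickL T).ncard = (chosen C).length := by rw [pickL_eq, ncard_pick hT]

/-- The group fixing all test vectors. -/
def fixers (T : List (leechLattice × ℤ)) : Subgroup Co0 where
  carrier := {g | ∀ t ∈ T, g • t.1 = t.1}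
  one_mem' := fun t _ => one_smul _ t.1
  mul_mem' := fun {a b} ha hb t ht => by rw [mul_smul, hb t ht, ha t ht]
  inv_mem' := fun {a} ha t ht => inv_smul_eq_iff.2 (ha t ht).symm

theorem smul_mem_pickL {T : List (leechLattice × ℤ)} {g : Co0} (hg : g ∈ fixers T) {x : leechLattice}
    (hx : x ∈ pickL T) : g • x ∈ pickL T := by
  refine ⟨(co0_norm g x).trans hx.1, fun t ht => ?_⟩
  conv_lhs => rw [← hg t ht, co0_dot]
  exact hx.2 t ht

/-- Every selected number is reached along its list of indices. -/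
noncomputable def certAll (Ms : List Mat) (X0 : ℕ) : List ℕ → List (List ℕ) → Bool :=
  List.rec (fun P => List.rec true (fun _ _ _ => false) P)
    fun X _ r P => List.rec false (fun p P' _ => Bool.rec false (r P') (Nat.beq (walk Ms X0 p) X)) P

theorem certAll_spec {Ms : List Mat} {X0 : ℕ} : ∀ (L : List ℕ) (P : List (List ℕ)), certAll Ms X0 L P = true →
    ∀ X ∈ L, ∃ p, walk Ms X0 p = X
  | [], _, _, X, h => absurd h (List.not_mem_nil)
  | Y :: L, [], h, _, _ => Bool.noConfusion h
  | Y :: L, p :: P, h, X, hX => by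
    change Bool.rec false (certAll Ms X0 L P) (Nat.beq (walk Ms X0 p) Y) = true at h
    cases hb : Nat.beq (walk Ms X0 p) Y
    · rw [hb] at h; exact Bool.noConfusion h
    rw [hb] at h
    rcases List.mem_cons.1 hX with rfl | hX
    · exact ⟨p, Nat.eq_of_beq_eq_true hb⟩
    · exact certAll_spec L P h X hX

theorem wordElt_mem {gs : List Co0} {S : Subgroup Co0} (hgs : ∀ g ∈ gs, g ∈ S) (w : List ℕ) : wordElt gs w ∈ S := by
  refine S.list_prod_mem fun g hg => ?_
  obtain ⟨k, -, rfl⟩ := List.mem_map.1 hg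
  rw [List.getD_eq_getElem?_getD]
  rcases h : gs[k]? with _ | a
  · exact S.one_mem
  · exact hgs _ (List.mem_of_getElem? h)

theorem transitive_of_cert {gs : List Co0} {Ms : List Mat} (h : ∀ k, IsMat (gs.getD k 1) (Ms.getD k oneMat))
    {S : Subgroup Co0} (hgs : ∀ g ∈ gs, g ∈ S) {T : List (leechLattice × ℤ)} {C : List (ℕ × ℕ)}
    (hT : testsOK (plain T) C = true) {x0 : leechLattice} (hx0 : sqNorm (x0 : GolayPt → ℤ) ≤ 64)
    {P : List (List ℕ)} (hc : certAll Ms (enc (x0 : GolayPt → ℤ)) (chosen C) P = true) :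
    ∀ y ∈ pickL T, ∃ g ∈ S, g • x0 = y := by
  intro y hy
  obtain ⟨p, hp⟩ := certAll_spec _ _ hc _ ((mem_chosen_iff hT).2 ⟨y, pickL_eq T ▸ hy, rfl⟩)
  rw [walk_enc h hx0] at hp
  exact ⟨_, wordElt_mem hgs p, Subtype.ext (enc_inj (small_of_norm (by rw [co0_norm]; exact hx0))
    (small_of_norm (by rw [hy.1]; norm_num)) hp)⟩

theorem orbit_eq {S : Subgroup Co0} {T : List (leechLattice × ℤ)} {x0 : leechLattice} (hS : S ≤ fixers T)
    (hx0 : x0 ∈ pickL T) (h : ∀ y ∈ pickL T, ∃ g ∈ S, g • x0 = y) : orbit S x0 = pickL T := by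
  ext y
  constructor
  · rintro ⟨g, rfl⟩; exact smul_mem_pickL (hS g.2) hx0
  · intro hy
    obtain ⟨g, hg, e⟩ := h y hy
    exact ⟨⟨g, hg⟩, e⟩

theorem pair_transitive_of {S : Subgroup Co0} {P : Set leechLattice} {x0 : leechLattice}
    (h : ∀ y ∈ P, ∃ g ∈ S, g • x0 = y) {y y' : leechLattice} (hy : y ∈ P) (hy' : y' ∈ P) :
    ∃ g ∈ S, g • y = y' := by
  obtain ⟨g, hg, e⟩ := h y hy
  obtain ⟨g', hg', e'⟩ := h y' hy'
  exact ⟨g' * g⁻¹, mul_mem hg' (inv_mem hg), by rw [mul_smul, ← e, inv_smul_smul, e']⟩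

theorem fix_of_step {g : Co0} {C : Mat} (h : IsMat g C) {u : leechLattice} (hu : sqNorm (u : GolayPt → ℤ) ≤ 64)
    (e : step C (enc (u : GolayPt → ℤ)) = enc (u : GolayPt → ℤ)) : g • u = u := by
  rw [step_enc h hu] at e
  exact Subtype.ext (enc_inj (small_of_norm (by rw [co0_norm]; exact hu)) (small_of_norm hu) e)

/-- All matrices fix the packed vectors. -/
noncomputable def fixAll (Ms : List Mat) (us : List ℕ) : Bool :=
  List.all Ms fun C => List.all us fun U => Nat.beq (step C U) U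

theorem mem_fixers_of {gs : List Co0} {Ms : List Mat} (h : ∀ k, IsMat (gs.getD k 1) (Ms.getD k oneMat))
    (hlen : gs.length = Ms.length) {T : List (leechLattice × ℤ)} {us : List ℕ}
    (hus : (plain T).map (fun t => enc t.1) = us) (hn : ∀ t ∈ T, sqNorm (t.1 : GolayPt → ℤ) ≤ 64)
    (hf : fixAll Ms us = true) : ∀ g ∈ gs, g ∈ fixers T := by
  intro g hg t ht
  obtain ⟨k, hk, rfl⟩ := List.getElem_of_mem hg
  have h1 := h k
  rw [List.getD_eq_getElem _ _ hk, List.getD_eq_getElem _ _ (hlen ▸ hk)] at h1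
  simp only [fixAll, List.all_eq_true] at hf
  refine fix_of_step h1 (hn t ht) (Nat.eq_of_beq_eq_true (hf _ (List.getElem_mem (hlen ▸ hk)) _ ?_))
  rw [← hus, plain, List.map_map]
  exact List.mem_map.2 ⟨t, ht, rfl⟩

theorem isMat_level {gs : List Co0} {Ms : List Mat} (h : ∀ k, IsMat (gs.getD k 1) (Ms.getD k oneMat))
    {ws : List (List ℕ)} {Ns : List Mat} (e : ws.map (wordMat Ms) = Ns) :
    ∀ k, IsMat ((ws.map (wordElt gs)).getD k 1) (Ns.getD k oneMat) := by
  intro k
  subst e
  simp only [List.getD_eq_getElem?_getD, List.getElem?_map]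
  rcases ws[k]? with _ | w
  · exact isMat_one
  · exact isMat_word h w

/-- The columns of a monomial automorphism. -/
def monoMat (P c : ℕ) : Mat :=
  let E := (List.range 24).map fun i =>
    enc (Pi.single (fnPt P (idxPt i)) (if c.testBit (ptIdx (fnPt P (idxPt i))) then -8 else 8))
  (E, 8 * E.sum)

theorem isMat_mono {P c : ℕ} (hP : isM24Code P = true) (hc : codeTest c = true) :
    IsMat (monoAut (permOf_mem_M24 hP) (pts_supports hc)) (monoMat P c) := by
  refine ⟨List.map_congr_left fun i _ => ?_, rfl⟩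
  congr 1
  rw [monoAut_smul, show (eight (idxPt i) : GolayPt → ℤ) = Pi.single (idxPt i) 8 from rfl, signedPerm_eight,
    permOf_apply (isPermCode_of_isM24Code hP)]
  simp only [mem_pts, fnPt]
  congr

/-- The columns of the extra involution. -/
def xiMat : Mat :=
  let E := (List.range 24).map fun i => enc (xiVec (Pi.single (idxPt i) 8))
  (E, 8 * E.sum)

theorem isMat_xi : IsMat xiAut xiMat := by
  refine ⟨List.map_congr_left fun i _ => ?_, rfl⟩
  rw [xiAut_smul]
  rfl

end CfsgLib.Spor.Leech.Census32
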