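/-
Moving selections and their orbits by automorphisms.
-/
import Cfsg.Agent.Lib.Spor.Leech.Census.Orbit

set_option autoImplicit false

namespace CfsgLib.Spor.Leech.Census32

open Cfsg MulAction

/-- The moved tests. -/
def moveT (g : Co0) (T : List (leechLattice × ℤ)) : List (leechLattice × ℤ) := T.map fun t => (g • t.1, t.2)

theorem mem_pickL_move {g : Co0} {T : List (leechLattice × ℤ)} {x : leechLattice} :
    g • x ∈ pickL (moveT g T) ↔ x ∈ pickL T := by
  simp only [pickL, moveT, Set.mem_ofPred_eq, List.forall_mem_map, co0_norm, co0_dot]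

theorem pickL_move (g : Co0) (T : List (leechLattice × ℤ)) : pickL (moveT g T) = (g • ·) '' pickL T := by
  ext y
  constructor
  · exact fun hy => ⟨g⁻¹ • y, mem_pickL_move.1 ((smul_inv_smul g y).symm ▸ hy), smul_inv_smul g y⟩
  · rintro ⟨x, hx, rfl⟩; exact mem_pickL_move.2 hx

theorem ncard_move {g : Co0} {T T0 : List (leechLattice × ℤ)} (e : moveT g T = T0) :
    (pickL T).ncard = (pickL T0).ncard := by
  rw [← e, pickL_move, Set.ncard_image_of_injective _ (MulAction.injective g)]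

theorem conj_fixers {g k : Co0} {T T0 : List (leechLattice × ℤ)} (e : moveT g T = T0) (hk : k ∈ fixers T0) :
    g⁻¹ * k * g ∈ fixers T := fun t ht => by
  have := hk _ (e ▸ List.mem_map.2 ⟨t, ht, rfl⟩ : (g • t.1, t.2) ∈ T0)
  rw [mul_smul, mul_smul, this, inv_smul_smul]

theorem trans_move {g : Co0} {T T0 : List (leechLattice × ℤ)} (e : moveT g T = T0) {x0 : leechLattice}
    (h : ∀ y ∈ pickL T0, ∃ k ∈ fixers T0, k • x0 = y) {x x' : leechLattice} (hx : x ∈ pickL T) (hx' : x' ∈ pickL T) :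
    ∃ k ∈ fixers T, k • x = x' := by
  obtain ⟨k, hk, hk'⟩ := pair_transitive_of h (e ▸ mem_pickL_move.2 hx) (e ▸ mem_pickL_move.2 hx')
  exact ⟨_, conj_fixers e hk, by rw [mul_smul, mul_smul, hk', inv_smul_smul]⟩

theorem move_to_rep {g : Co0} {T T0 : List (leechLattice × ℤ)} (e : moveT g T = T0) {x0 : leechLattice}
    (hx0 : x0 ∈ pickL T0) (h : ∀ y ∈ pickL T0, ∃ k ∈ fixers T0, k • x0 = y) {x : leechLattice} (hx : x ∈ pickL T) :
    ∃ g' : Co0, moveT g' T = T0 ∧ g' • x = x0 := by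
  obtain ⟨k, hk, hk'⟩ := pair_transitive_of h (e ▸ mem_pickL_move.2 hx) hx0
  refine ⟨k * g, ?_, by rw [mul_smul, hk']⟩
  rw [← e]
  refine List.map_congr_left fun t ht => ?_
  rw [mul_smul, hk _ (e ▸ List.mem_map.2 ⟨t, ht, rfl⟩ : (g • t.1, t.2) ∈ T0)]

theorem moveT_append (g : Co0) (T U : List (leechLattice × ℤ)) : moveT g (T ++ U) = moveT g T ++ moveT g U :=
  List.map_append

theorem pickL_snoc_subset (T : List (leechLattice × ℤ)) (x : leechLattice) (n : ℤ) : pickL (T ++ [(x, n)]) ⊆ pickL T :=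
  fun _ hy => ⟨hy.1, fun t ht => hy.2 t (List.mem_append_left _ ht)⟩

theorem mem_snoc {T : List (leechLattice × ℤ)} {x y : leechLattice} {n : ℤ} :
    y ∈ pickL (T ++ [(x, n)]) ↔ y ∈ pickL T ∧ dotInt (x : GolayPt → ℤ) (y : GolayPt → ℤ) = n := by
  simp only [pickL, Set.mem_ofPred_eq, List.forall_mem_append, List.forall_mem_singleton, and_assoc]

theorem orbit_snoc {S : Subgroup Co0} {T : List (leechLattice × ℤ)} {x : leechLattice} {n : ℤ} {y : leechLattice}
    (hS : ∀ k, k ∈ S ↔ k ∈ fixers T ∧ k • x = x) (hy : y ∈ pickL (T ++ [(x, n)]))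
    (h : ∀ y' ∈ pickL (T ++ [(x, n)]), ∃ k ∈ fixers (T ++ [(x, n)]), k • y = y') :
    orbit S y = pickL (T ++ [(x, n)]) := by
  refine orbit_eq (fun k hk t ht => ?_) hy fun y' hy' => ?_
  · rcases List.mem_append.1 ht with ht | ht
    · exact ((hS k).1 hk).1 t ht
    · rw [List.mem_singleton.1 ht]; exact ((hS k).1 hk).2
  · obtain ⟨k, hk, e⟩ := h y' hy'
    exact ⟨k, (hS k).2 ⟨fun t ht => hk t (List.mem_append_left _ ht), hk (x, n) (by simp)⟩, e⟩

theorem self_dot {x : leechLattice} (hx : sqNorm (x : GolayPt → ℤ) = 32) :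
    dotInt (x : GolayPt → ℤ) (x : GolayPt → ℤ) = 32 := by
  rw [← hx, sqNorm, dotInt]
  exact Finset.sum_congr rfl fun i _ => (sq _).symm

/-- A selection is the base vector together with its slices, when the numbers add up. -/
theorem cover {T : List (leechLattice × ℤ)} {x : leechLattice} (hx : x ∈ pickL T) (ns : List ℤ) (h32 : (32 : ℤ) ∉ ns)
    (hnd : ns.Nodup) (hcard : (pickL T).ncard = 1 + (ns.map fun n => (pickL (T ++ [(x, n)])).ncard).sum)
    (hfin : (pickL T).Finite) {y : leechLattice} (hy : y ∈ pickL T) (hne : y ≠ x) :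
    ∃ n ∈ ns, y ∈ pickL (T ++ [(x, n)]) := by
  classical
  let F := hfin.toFinset
  have hs : ∀ n, (pickL (T ++ [(x, n)])).ncard = (F.filter fun z : leechLattice =>
      dotInt (x : GolayPt → ℤ) (z : GolayPt → ℤ) = n).card := by
    intro n
    rw [← Set.ncard_coe_finset]
    congr 1
    ext z
    simp [F, mem_snoc]
  by_contra hcon
  simp only [mem_snoc, not_exists, not_and] at hcon
  have hsum : ((ns.map fun n => (pickL (T ++ [(x, n)])).ncard).sum) ≤ ((F.erase x).erase y).card := by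
    rw [List.map_congr_left fun n _ => hs n, ← List.sum_toFinset _ hnd, ← Finset.card_biUnion]
    · refine Finset.card_le_card fun z hz => ?_
      obtain ⟨n, hn, hz⟩ := Finset.mem_biUnion.1 hz
      rw [List.mem_toFinset] at hn
      rw [Finset.mem_filter] at hz
      refine Finset.mem_erase.2 ⟨?_, Finset.mem_erase.2 ⟨?_, hz.1⟩⟩
      · rintro rfl; exact hcon n hn hy hz.2
      · rintro rfl
        rw [self_dot hx.1] at hz
        exact h32 (hz.2 ▸ hn)
    · intro a _ b _ hab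
      rw [Function.onFun, Finset.disjoint_filter]
      intro z _ e e'
      exact hab (e.symm.trans e')
  have hyF : y ∈ F.erase x := Finset.mem_erase.2 ⟨hne, hfin.mem_toFinset.2 hy⟩
  rw [Finset.card_erase_of_mem hyF, Finset.card_erase_of_mem (hfin.mem_toFinset.2 hx)] at hsum
  have hF : F.card = (pickL T).ncard := (Set.ncard_eq_toFinset_card _ hfin).symm
  have : 0 < (F.erase x).card := Finset.card_pos.2 ⟨y, hyF⟩
  rw [Finset.card_erase_of_mem (hfin.mem_toFinset.2 hx)] at this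
  simp only [F] at *
  omega

theorem orbit_moved {T T0 : List (leechLattice × ℤ)} {x xL : leechLattice} {n : ℤ} {r : leechLattice} {g : Co0}
    (e : moveT g (T ++ [(x, n)]) = T0 ++ [(xL, n)]) {N : ℕ} (hN : (pickL (T0 ++ [(xL, n)])).ncard = N)
    (hr : r ∈ pickL (T0 ++ [(xL, n)])) (h : ∀ z ∈ pickL (T0 ++ [(xL, n)]), ∃ k ∈ fixers (T0 ++ [(xL, n)]), k • r = z)
    {S : Subgroup Co0} (hS : ∀ k, k ∈ S ↔ k ∈ fixers T ∧ k • x = x) :
    ∃ y ∈ pickL T, (orbit S y).ncard = N ∧ orbit S y = pickL (T ++ [(x, n)]) := by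
  have hy : g⁻¹ • r ∈ pickL (T ++ [(x, n)]) := mem_pickL_move.1 (by rw [e, smul_inv_smul]; exact hr)
  have ho := orbit_snoc hS hy fun y' hy' => trans_move e h hy hy'
  exact ⟨_, pickL_snoc_subset _ _ _ hy, by rw [ho, ncard_move e, hN], ho⟩

end CfsgLib.Spor.Leech.Census32
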