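/-
The configuration of two vectors of norm 48 with product -32, and its hundred minimal vectors.
-/
import Cfsg.Agent.Lib.Spor.Leech.Census.Transfer
import Cfsg.Agent.Lib.Spor.Leech.Census.Data.OrbD
import Cfsg.Agent.Lib.Spor.Leech.Census.Data.OrbA
import Cfsg.Agent.Lib.Spor.Leech.Census.Data.OrbAEight
import Cfsg.Agent.Lib.Spor.Leech.Census.Data.OrbASixteen

set_option autoImplicit false

namespace CfsgLib.Spor.Leech.Census32

open Cfsg MulAction

theorem threeElts_fix : ∀ g ∈ threeElts, g ∈ fixers testsD :=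
  mem_fixers_of isMat_three (us := [enc (u3L : GolayPt → ℤ)]) rfl rfl
    (by simp only [testsD, List.forall_mem_cons]; exact ⟨by decide +kernel, fun _ h => absurd h List.not_mem_nil⟩)
    (by decide +kernel)

theorem hsElts_fix : ∀ g ∈ hsElts, g ∈ fixers [(u3L, (24 : ℤ)), (w0L, -24)] :=
  mem_fixers_of isMat_hs (us := [enc (u3L : GolayPt → ℤ), enc (w0L : GolayPt → ℤ)]) rfl rfl
    (by simp only [List.forall_mem_cons]
        exact ⟨by decide +kernel, by decide +kernel, fun _ h => absurd h List.not_mem_nil⟩)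
    (by decide +kernel)

theorem mTwoElts_fix : ∀ g ∈ mTwoElts, ∀ n : ℤ, g ∈ fixers (testsA ++ [(v1L, n)]) := fun g hg n =>
  mem_fixers_of isMat_mTwo (us := [enc (u3L : GolayPt → ℤ), enc (w0L : GolayPt → ℤ), enc (v1L : GolayPt → ℤ)]) rfl rfl
    (by simp only [testsA, List.cons_append, List.nil_append, List.forall_mem_cons]
        exact ⟨by decide +kernel, by decide +kernel, by decide +kernel, fun _ h => absurd h List.not_mem_nil⟩)
    (by decide +kernel) g hg

theorem transD : ∀ y ∈ pickL testsD, ∃ k ∈ fixers testsD, k • y0L = y := reachD threeElts_fix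

theorem transA : ∀ y ∈ pickL testsA, ∃ k ∈ fixers testsA, k • v1L = y := reachA hsElts_fix

theorem sq_u3L : sqNorm (u3L : GolayPt → ℤ) = 48 := by decide +kernel

theorem exists_move_u {u : leechLattice} (hu : sqNorm (u : GolayPt → ℤ) = 48) (n : ℤ) :
    ∃ g : Co0, moveT g [(u, n)] = [(u3L, n)] := by
  obtain ⟨g, hg⟩ := transitive_norm (x := u) (y := u3L) (Or.inr (Or.inl hu)) (sq_u3L.trans hu.symm)
  exact ⟨g, by simp [moveT, hg]⟩

/-- The normal form of the pair. -/
theorem normal_hs {v w : leechLattice} (hv : sqNorm (v : GolayPt → ℤ) = 48) (hw : sqNorm (w : GolayPt → ℤ) = 48)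
    (hvw : dotInt (v : GolayPt → ℤ) (w : GolayPt → ℤ) = -32) : ∃ g : Co0, g • v = u3L ∧ g • w = w0L := by
  have hvv : dotInt (v : GolayPt → ℤ) (v : GolayPt → ℤ) = 48 := by
    rw [← hv, sqNorm, dotInt]; exact Finset.sum_congr rfl fun i _ => (sq _).symm
  have hx : -(v + w) ∈ pickL [(v, (-16 : ℤ))] := by
    refine ⟨?_, fun t ht => ?_⟩
    · rw [AddSubgroup.coe_neg, AddSubgroup.coe_add,
        show sqNorm (-((v : GolayPt → ℤ) + (w : GolayPt → ℤ))) = sqNorm ((v : GolayPt → ℤ) + (w : GolayPt → ℤ)) by simp only [sqNorm, Pi.neg_apply, neg_sq], sqNorm_add, hv, hw,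
        hvw]
      norm_num
    · rw [List.mem_singleton.1 ht, AddSubgroup.coe_neg, AddSubgroup.coe_add]
      show dotInt (v : GolayPt → ℤ) (-((v : GolayPt → ℤ) + w)) = -16
      rw [show dotInt (v : GolayPt → ℤ) (-((v : GolayPt → ℤ) + w)) = -(dotInt (v : GolayPt → ℤ) v + dotInt (v : GolayPt → ℤ) w) by
        simp only [dotInt, Pi.neg_apply, Pi.add_apply, ← Finset.sum_add_distrib, ← Finset.sum_neg_distrib]
        exact Finset.sum_congr rfl fun i _ => by ring, hvv, hvw]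
      norm_num
  obtain ⟨g, hg⟩ := exists_move_u hv (-16)
  obtain ⟨g', e, e'⟩ := move_to_rep (T0 := testsD) hg memD transD hx
  have hgv : g' • v = u3L := by simpa [moveT, testsD] using e
  refine ⟨g', hgv, ?_⟩
  have h : g' • w = -(g' • -(v + w)) - g' • v := by
    have := co0_add g' v w
    rw [show g' • (-(v + w)) = -(g' • (v + w)) from ?_, neg_neg, this, add_sub_cancel_left]
    have h0 := co0_sub g' 0 (v + w)
    have hz := co0_sub g' v v
    rw [sub_self, sub_self] at hz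
    rwa [zero_sub, hz, zero_sub] at h0
  rw [h, e', hgv]
  decide +kernel

theorem moveT_pair {g : Co0} {v w : leechLattice} (h1 : g • v = u3L) (h2 : g • w = w0L) :
    moveT g [(v, (24 : ℤ)), (w, -24)] = testsA := by simp [moveT, testsA, h1, h2]

theorem hundred_count {v w : leechLattice} (hv : sqNorm (v : GolayPt → ℤ) = 48) (hw : sqNorm (w : GolayPt → ℤ) = 48)
    (hvw : dotInt (v : GolayPt → ℤ) (w : GolayPt → ℤ) = -32) : (pickL [(v, (24 : ℤ)), (w, -24)]).ncard = 100 := by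
  obtain ⟨g, h1, h2⟩ := normal_hs hv hw hvw
  rw [ncard_move (moveT_pair h1 h2), ncardA]

theorem hundred_trans {v w : leechLattice} (hv : sqNorm (v : GolayPt → ℤ) = 48) (hw : sqNorm (w : GolayPt → ℤ) = 48)
    (hvw : dotInt (v : GolayPt → ℤ) (w : GolayPt → ℤ) = -32) {x x' : leechLattice}
    (hx : x ∈ pickL [(v, (24 : ℤ)), (w, -24)]) (hx' : x' ∈ pickL [(v, (24 : ℤ)), (w, -24)]) :
    ∃ k : Co0, k • v = v ∧ k • w = w ∧ k • x = x' := by
  obtain ⟨g, h1, h2⟩ := normal_hs hv hw hvw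
  obtain ⟨k, hk, e⟩ := trans_move (moveT_pair h1 h2) transA hx hx'
  exact ⟨k, hk _ List.mem_cons_self, hk _ (List.mem_cons_of_mem _ List.mem_cons_self), e⟩

theorem hundred_slice {v w x : leechLattice} (hv : sqNorm (v : GolayPt → ℤ) = 48) (hw : sqNorm (w : GolayPt → ℤ) = 48)
    (hvw : dotInt (v : GolayPt → ℤ) (w : GolayPt → ℤ) = -32) (hx : x ∈ pickL [(v, (24 : ℤ)), (w, -24)]) :
    (pickL ([(v, (24 : ℤ)), (w, -24)] ++ [(x, 8)])).ncard = 22 ∧
    (pickL ([(v, (24 : ℤ)), (w, -24)] ++ [(x, 16)])).ncard = 77 ∧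
    (∀ y ∈ pickL [(v, (24 : ℤ)), (w, -24)], y ≠ x → dotInt (x : GolayPt → ℤ) (y : GolayPt → ℤ) = 8 ∨
      dotInt (x : GolayPt → ℤ) (y : GolayPt → ℤ) = 16) ∧
    ∀ n : ℤ, n = 8 ∨ n = 16 → ∀ y ∈ pickL ([(v, (24 : ℤ)), (w, -24)] ++ [(x, n)]),
      ∀ y' ∈ pickL ([(v, (24 : ℤ)), (w, -24)] ++ [(x, n)]), ∃ k : Co0, k • v = v ∧ k • w = w ∧ k • x = x ∧ k • y = y' := by
  obtain ⟨g, h1, h2⟩ := normal_hs hv hw hvw
  obtain ⟨g', e, e'⟩ := move_to_rep (moveT_pair h1 h2) memA transA hx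
  have em : ∀ n : ℤ, moveT g' ([(v, (24 : ℤ)), (w, -24)] ++ [(x, n)]) = testsA ++ [(v1L, n)] := fun n => by
    rw [moveT_append, e]; simp [moveT, e']
  have c8 : (pickL ([(v, (24 : ℤ)), (w, -24)] ++ [(x, 8)])).ncard = 22 := by
    rw [ncard_move (em 8)]; exact ncardAEight
  have c16 : (pickL ([(v, (24 : ℤ)), (w, -24)] ++ [(x, 16)])).ncard = 77 := by
    rw [ncard_move (em 16)]; exact ncardASixteen
  refine ⟨c8, c16, fun y hy hne => ?_, ?_⟩
  · obtain ⟨n, hn, h⟩ := cover hx [8, 16] (by decide) (by decide)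
      (by simp only [List.map_cons, List.map_nil, List.sum_cons, List.sum_nil, c8, c16, hundred_count hv hw hvw] <;> norm_num) (Set.finite_of_ncard_pos (by rw [hundred_count hv hw hvw]; norm_num)) hy hne
    rw [mem_snoc] at h
    simp only [List.mem_cons, List.not_mem_nil, or_false] at hn
    rcases hn with rfl | rfl
    · exact Or.inl h.2
    · exact Or.inr h.2
  · intro n hn y hy y' hy'
    have key : ∀ {x0 : leechLattice}, (∀ z ∈ pickL (testsA ++ [(v1L, n)]), ∃ k ∈ fixers (testsA ++ [(v1L, n)]), k • x0 = z) →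
        ∃ k : Co0, k • v = v ∧ k • w = w ∧ k • x = x ∧ k • y = y' := fun h => by
      obtain ⟨k, hk, ek⟩ := trans_move (em n) h hy hy'
      exact ⟨k, hk (v, 24) (by simp), hk (w, -24) (by simp), hk (x, n) (by simp), ek⟩
    rcases hn with rfl | rfl
    · exact key (reachAEight fun a ha => mTwoElts_fix a ha 8)
    · exact key (reachASixteen fun a ha => mTwoElts_fix a ha 16)

end CfsgLib.Spor.Leech.Census32
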