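/-
The stabilizer of two vectors of norm 48 with product -32 is simple.
-/
import Cfsg.Agent.Lib.Spor.Leech.Census.HSConfig
import Cfsg.Agent.Lib.Spor.Leech.McLaughlin

set_option autoImplicit false

namespace CfsgLib.Spor.Leech.Census32

open Cfsg MulAction
open scoped Pointwise

theorem hs_marks : (u3L : GolayPt → ℤ) = (fun p => if p = none then 5 else 1) ∧
    (w0L : GolayPt → ℤ) = (fun p => if p = none then -1 else if p = p0 then -5 else -1) ∧
    sqNorm (w0L : GolayPt → ℤ) = 48 ∧ dotInt (u3L : GolayPt → ℤ) (w0L : GolayPt → ℤ) = -32 := by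
  refine ⟨funext ?_, funext ?_, ?_, ?_⟩ <;> decide +kernel

theorem stab_pair_eq : stabilizer Co0 u3L ⊓ stabilizer Co0 w0L = stabilizer Co0 u3L ⊓ stabilizer Co0 y0L := by
  have e : y0L = 0 - u3L - w0L := by decide +kernel
  have e' : w0L = 0 - u3L - y0L := by decide +kernel
  have hz : ∀ g : Co0, g • (0 : leechLattice) = 0 := fun g => by
    have := co0_sub g u3L u3L
    rwa [sub_self, sub_self] at this
  ext g
  simp only [Subgroup.mem_inf, mem_stabilizer_iff]
  constructor <;> rintro ⟨a, b⟩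
  · exact ⟨a, by rw [e, co0_sub, co0_sub, hz, a, b]⟩
  · exact ⟨a, by rw [e', co0_sub, co0_sub, hz, a, b]⟩

theorem card_hs_base : Nat.card ↥(stabilizer Co0 u3L ⊓ stabilizer Co0 w0L) = 44352000 := by
  have h := orbit_count (v := u3L) (w := y0L) (S := pickL testsD) fun x => by
    constructor
    · intro hx
      obtain ⟨k, hk, e⟩ := transD x hx
      exact ⟨k, hk (u3L, -16) (by simp [testsD]), e⟩
    · rintro ⟨k, hk, rfl⟩
      exact smul_mem_pickL (fun t ht => by rw [testsD, List.mem_singleton] at ht; rw [ht]; exact hk) memD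
  rw [ncardD, card_stab48 sq_u3L, ← stab_pair_eq] at h
  omega

theorem hs_double_unique {z : leechLattice} (h : prmHom doubleEl • z = z) (hn : sqNorm (z : GolayPt → ℤ) = 64)
    (hv : dotInt (u3L : GolayPt → ℤ) z = 40) (hw : dotInt (w0L : GolayPt → ℤ) z = -8) : z = eight none := by
  obtain ⟨e1, e2, -, -⟩ := hs_marks
  rw [e1] at hv; rw [e2] at hw
  have h1 := sum_classes h (fun _ x => x ^ 2) (α := fun x => x ^ 2) (β := fun x => x ^ 2) (fun _ _ => rfl) rfl
  have h2 := sum_classes h (fun p x => (if p = none then (5 : ℤ) else 1) * x) (α := fun x => x) (β := fun x => x)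
    (fun t _ => funext fun x => by simp) (funext fun x => by simp [p0])
  have h3 := sum_classes h (fun p x => (if p = none then (-1 : ℤ) else if p = p0 then -5 else -1) * x)
    (α := fun x => -x) (β := fun x => -5 * x)
    (fun t ht => funext fun x => by simp [p0, ht]) (funext fun x => by simp [p0])
  rw [sqNorm, h1] at hn
  rw [dotInt, h2] at hv
  rw [dotInt, h3] at hw
  simp [p0] at hv hw
  set a := (z : GolayPt → ℤ) none with ha
  set b := (z : GolayPt → ℤ) p0 with hb
  set c := (z : GolayPt → ℤ) (some 1) with hc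
  set d := (z : GolayPt → ℤ) (some 5) with hd
  have key : a = 8 ∧ b = 0 ∧ c = 0 ∧ d = 0 := by
    simp only [p0] at hb
    rw [← hb] at hv hw
    have hcb : -2 ≤ c ∧ c ≤ 2 := ⟨by nlinarith [sq_nonneg a, sq_nonneg b, sq_nonneg d], by
      nlinarith [sq_nonneg a, sq_nonneg b, sq_nonneg d]⟩
    have hdb : -2 ≤ d ∧ d ≤ 2 := ⟨by nlinarith [sq_nonneg a, sq_nonneg b, sq_nonneg c], by
      nlinarith [sq_nonneg a, sq_nonneg b, sq_nonneg c]⟩
    clear_value a b c d
    obtain rfl : b = a - 8 := by omega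
    obtain ⟨c1, c2⟩ := hcb
    obtain ⟨d1, d2⟩ := hdb
    interval_cases c <;> interval_cases d <;>
      first
        | omega
        | (exfalso; have : a = 8 := by omega
           subst this; norm_num at hn)
  obtain ⟨k1, k2, k3, k4⟩ := key
  refine eq_eight_none k1 fun t => ?_
  rcases eq_or_ne t 0 with rfl | ht
  · exact k2
  · rw [double_fixed h t ht]; split_ifs <;> assumption

theorem simple_hs_base : IsSimpleGroup ↥(stabilizer Co0 u3L ⊓ stabilizer Co0 w0L) := by
  obtain ⟨f1, f2, f3⟩ := doubleEl_facts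
  obtain ⟨e1, e2, -, -⟩ := hs_marks
  have hz : ∀ {τ : Equiv.Perm GolayPt}, τ none = none → τ p0 = p0 → ∀ i,
      (u3L : GolayPt → ℤ) (τ.symm i) = (u3L : GolayPt → ℤ) i ∧ (w0L : GolayPt → ℤ) (τ.symm i) = (w0L : GolayPt → ℤ) i := by
    intro τ hn h0 i
    have a : τ.symm i = none ↔ i = none := by rw [τ.symm_apply_eq, hn]
    have b : τ.symm i = p0 ↔ i = p0 := by rw [τ.symm_apply_eq, h0]
    rw [e1, e2]
    simp only [a, b, and_self]
  haveI : Fact (Nat.Prime 11) := ⟨by norm_num⟩
  refine stab_simple _ _ (isSimpleGroup_stabilizer_two_points none p0 (by simp [p0])) doubleEl f1 f2 f3 ?_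
    (fun τ hτ => hτ.1) (fun g hg h8 => ?_) (fun g hg hx => ?_) ?_ fun N _ hdvd hq => ?_
  · rintro _ ⟨τ, ⟨h1, h2⟩, rfl⟩
    refine ⟨Subtype.ext (funext fun i => ?_), Subtype.ext (funext fun i => ?_)⟩
    · exact (prmAut_smul τ.2 u3L i).trans (hz h1 h2 i).1
    · exact (prmAut_smul τ.2 w0L i).trans (hz h1 h2 i).2
  · obtain ⟨σ, hσ, c, hc, rfl⟩ := exists_monoAut (mem_crossStab_of_congr (Or.inl h8))
    obtain ⟨s1, -⟩ := monoAut_none_fixed h8
    have h0 : monoAut hσ hc • eight p0 = eight p0 := by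
      have e : eight p0 = eight none - (u3L + w0L) - (u3L + w0L) := by decide +kernel
      rw [e, co0_sub, co0_sub, co0_add, mem_stabilizer_iff.1 hg.1, mem_stabilizer_iff.1 hg.2, h8]
    have s2 : σ p0 = p0 := by
      have h' := congrArg Subtype.val h0
      rw [monoAut_smul, show (eight p0 : GolayPt → ℤ) = Pi.single p0 8 from rfl, signedPerm_eight] at h'
      have h'' := congrFun h' (σ p0)
      rw [Pi.single_eq_same] at h''
      by_contra hne
      rw [Pi.single_eq_of_ne hne] at h''
      split_ifs at h'' <;> omega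
    obtain rfl : c = ∅ := Finset.eq_empty_of_forall_notMem fun i =>
      signs_trivial (congrArg Subtype.val hg.1) (hz s1 s2 i).1 (by rw [e1]; simp only; split_ifs <;> norm_num)
    exact ⟨⟨σ, hσ⟩, ⟨s1, s2⟩, rfl⟩
  · refine hs_double_unique hx ((co0_norm g _).trans (sqNorm_eight none)) ?_ ?_
    · conv_lhs => rw [← mem_stabilizer_iff.1 hg.1, co0_dot]
      decide +kernel
    · conv_lhs => rw [← mem_stabilizer_iff.1 hg.2, co0_dot]
      decide +kernel
  · rw [card_hs_base]; norm_num
  · rw [card_hs_base, card_stabilizer_two_points none p0 (by simp [p0])] at hdvd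
    refine Subgroup.eq_bot_of_card_eq _ (eq_one_of_parts Nat.card_pos.ne' (m := 100)
      (Nat.dvd_of_mul_dvd_mul_right (by norm_num : 0 < 443520) hdvd) (fun q k hq' hd hmod => ?_) hq)
    by_contra h0
    rcases prime_cases hq' hd h0 (a := 2) (b := 0) (c := 2) rfl with rfl | rfl | rfl
    · have := exp_le (e := 2) hd (by norm_num); interval_cases k <;> simp_all
    · have := exp_le (e := 0) hd (by norm_num); interval_cases k <;> simp_all
    · have := exp_le (e := 2) hd (by norm_num); interval_cases k <;> simp_all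

theorem isHS_stabilizer {v w : leechLattice} (hv : sqNorm (v : GolayPt → ℤ) = 48) (hw : sqNorm (w : GolayPt → ℤ) = 48)
    (hd : dotInt (v : GolayPt → ℤ) (w : GolayPt → ℤ) = -32) : IsHS ↥(stabilizer Co0 v ⊓ stabilizer Co0 w) := by
  obtain ⟨g, a, b⟩ := normal_hs hv hw hd
  haveI := simple_hs_base
  exact ⟨(pairStabEquiv a b).isSimpleGroup, by rw [Nat.card_congr (pairStabEquiv a b).toEquiv, card_hs_base]⟩

end CfsgLib.Spor.Leech.Census32
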