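/-
Translations between conditions on minimal vectors and selections.
-/
import Cfsg.Agent.Lib.Spor.Leech.Census.Transfer

set_option autoImplicit false

namespace CfsgLib.Spor.Leech.Census32

open Cfsg MulAction

theorem pickL_one (u : leechLattice) (m : ℤ) : pickL [(u, m)] =
    {x : leechLattice | sqNorm (x : GolayPt → ℤ) = 32 ∧ dotInt (u : GolayPt → ℤ) (x : GolayPt → ℤ) = m} := by
  ext x; simp [pickL]

theorem pickL_two (u v : leechLattice) (m n : ℤ) : pickL [(u, m), (v, n)] =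
    {x : leechLattice | sqNorm (x : GolayPt → ℤ) = 32 ∧ dotInt (u : GolayPt → ℤ) (x : GolayPt → ℤ) = m ∧
      dotInt (v : GolayPt → ℤ) (x : GolayPt → ℤ) = n} := by
  ext x; simp [pickL]

theorem pickL_decomp {u v : leechLattice} (hu : sqNorm (u : GolayPt → ℤ) = 48) (n : ℤ) :
    pickL [(u, (24 : ℤ)), (v, n)] =
    {x : leechLattice | sqNorm (x : GolayPt → ℤ) = 32 ∧ sqNorm ((u : GolayPt → ℤ) - (x : GolayPt → ℤ)) = 32 ∧
      dotInt (v : GolayPt → ℤ) (x : GolayPt → ℤ) = n} := by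
  rw [pickL_two]
  ext x
  simp only [Set.mem_ofPred_eq, sqNorm_sub, hu]
  constructor <;> rintro ⟨a, b, c⟩ <;> refine ⟨a, ?_, c⟩ <;> omega

theorem mem_fix_one {u x : leechLattice} {m : ℤ} {k : Co0} :
    k ∈ stabilizer Co0 u ⊓ stabilizer Co0 x ↔ k ∈ fixers [(u, m)] ∧ k • x = x := by
  show k • u = u ∧ k • x = x ↔ (∀ t ∈ [(u, m)], k • t.1 = t.1) ∧ k • x = x
  simp

theorem mem_fix_two {u v x : leechLattice} {m n : ℤ} {k : Co0} :
    k ∈ stabilizer Co0 u ⊓ stabilizer Co0 v ⊓ stabilizer Co0 x ↔ k ∈ fixers [(u, m), (v, n)] ∧ k • x = x := by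
  show (k • u = u ∧ k • v = v) ∧ k • x = x ↔ (∀ t ∈ [(u, m), (v, n)], k • t.1 = t.1) ∧ k • x = x
  simp

end CfsgLib.Spor.Leech.Census32
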