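/-
The 11178 minimal vectors of product -16 with a vector of norm 48, and the suborbits.
-/
import Cfsg.Agent.Lib.Spor.Leech.Census.HSConfig
import Cfsg.Agent.Lib.Spor.Leech.Census.Data.OrbDMinusEight
import Cfsg.Agent.Lib.Spor.Leech.Census.Data.OrbDSixteen
import Cfsg.Agent.Lib.Spor.Leech.Census.Data.OrbDZero
import Cfsg.Agent.Lib.Spor.Leech.Census.Data.OrbDEight

set_option autoImplicit false

namespace CfsgLib.Spor.Leech.Census32

open Cfsg MulAction

theorem hsElts_fix_suborbit : ∀ g ∈ hsElts, ∀ n : ℤ, g ∈ fixers (testsD ++ [(y0L, n)]) := fun g hg n =>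
  mem_fixers_of isMat_hs (us := [enc (u3L : GolayPt → ℤ), enc (y0L : GolayPt → ℤ)]) rfl rfl
    (by simp only [testsD, List.cons_append, List.nil_append, List.forall_mem_cons]
        exact ⟨by decide +kernel, by decide +kernel, fun _ h => absurd h List.not_mem_nil⟩)
    (by decide +kernel) g hg

theorem co3_points {u : leechLattice} (hu : sqNorm (u : GolayPt → ℤ) = 48) :
    (pickL [(u, (-16 : ℤ))]).ncard = 11178 ∧ ∀ x ∈ pickL [(u, (-16 : ℤ))], ∀ x' ∈ pickL [(u, (-16 : ℤ))],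
      ∃ k : Co0, k • u = u ∧ k • x = x' := by
  obtain ⟨g, hg⟩ := exists_move_u hu (-16)
  refine ⟨by rw [ncard_move (T0 := testsD) hg, ncardD], fun x hx x' hx' => ?_⟩
  obtain ⟨k, hk, e⟩ := trans_move (T0 := testsD) hg transD hx hx'
  exact ⟨k, hk (u, -16) (by simp), e⟩

theorem co3_suborbits {u x : leechLattice} (hu : sqNorm (u : GolayPt → ℤ) = 48) (hx : x ∈ pickL [(u, (-16 : ℤ))])
    {S : Subgroup Co0} (hS : ∀ k, k ∈ S ↔ k ∈ fixers [(u, (-16 : ℤ))] ∧ k • x = x) :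
    ∃ y1 ∈ pickL [(u, (-16 : ℤ))], ∃ y2 ∈ pickL [(u, (-16 : ℤ))], ∃ y3 ∈ pickL [(u, (-16 : ℤ))],
      ∃ y4 ∈ pickL [(u, (-16 : ℤ))], (orbit S y1).ncard = 352 ∧ (orbit S y2).ncard = 1100 ∧
        (orbit S y3).ncard = 4125 ∧ (orbit S y4).ncard = 5600 ∧
        pickL [(u, (-16 : ℤ))] = {x} ∪ orbit S y1 ∪ orbit S y2 ∪ orbit S y3 ∪ orbit S y4 := by
  obtain ⟨g, hg⟩ := exists_move_u hu (-16)
  obtain ⟨g', e, e'⟩ := move_to_rep (T0 := testsD) hg memD transD hx
  have em : ∀ n : ℤ, moveT g' ([(u, (-16 : ℤ))] ++ [(x, n)]) = testsD ++ [(y0L, n)] := fun n => by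
    rw [moveT_append, e]; simp [moveT, e']
  obtain ⟨y1, a1, b1, o1⟩ := orbit_moved (em (-8)) ncardDMinusEight memDMinusEight
    (reachDMinusEight fun a ha => hsElts_fix_suborbit a ha (-8)) hS
  obtain ⟨y2, a2, b2, o2⟩ := orbit_moved (em 16) ncardDSixteen memDSixteen
    (reachDSixteen fun a ha => hsElts_fix_suborbit a ha 16) hS
  obtain ⟨y3, a3, b3, o3⟩ := orbit_moved (em 0) ncardDZero memDZero
    (reachDZero fun a ha => hsElts_fix_suborbit a ha 0) hS
  obtain ⟨y4, a4, b4, o4⟩ := orbit_moved (em 8) ncardDEight memDEight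
    (reachDEight fun a ha => hsElts_fix_suborbit a ha 8) hS
  refine ⟨y1, a1, y2, a2, y3, a3, y4, a4, b1, b2, b3, b4, ?_⟩
  rw [o1] at b1 ⊢; rw [o2] at b2 ⊢; rw [o3] at b3 ⊢; rw [o4] at b4 ⊢
  have c := (co3_points hu).1
  refine Set.Subset.antisymm (fun y hy => ?_) ?_
  · rcases eq_or_ne y x with rfl | hne
    · simp
    obtain ⟨n, hn, h⟩ := cover hx [-8, 16, 0, 8] (by decide) (by decide)
      (by simp only [List.map_cons, List.map_nil, List.sum_cons, List.sum_nil, b1, b2, b3, b4, c] <;> norm_num) 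
      (Set.finite_of_ncard_pos (by rw [c]; norm_num)) hy hne
    simp only [List.mem_cons, List.not_mem_nil, or_false] at hn
    simp only [Set.mem_union]
    rcases hn with rfl | rfl | rfl | rfl <;> tauto
  · simp only [Set.union_subset_iff, Set.singleton_subset_iff]
    exact ⟨⟨⟨⟨hx, pickL_snoc_subset _ _ _⟩, pickL_snoc_subset _ _ _⟩, pickL_snoc_subset _ _ _⟩, pickL_snoc_subset _ _ _⟩

end CfsgLib.Spor.Leech.Census32
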