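/-
An involution moving all hundred vectors.
-/
import Cfsg.Agent.Lib.Spor.Leech.Census.HSConfig

set_option autoImplicit false

namespace CfsgLib.Spor.Leech.Census32

open Cfsg MulAction

theorem inv_facts : wordMat hsMats invWord ≠ oneMat ∧ compMat (wordMat hsMats invWord) (wordMat hsMats invWord) = oneMat ∧
    (chosen codeA).all (fun X => !Nat.beq (step (wordMat hsMats invWord) X) X) = true := by
  refine ⟨by decide +kernel, by decide +kernel, by decide +kernel⟩

theorem isMat_unique {g : Co0} {C D : Mat} (hC : IsMat g C) (hD : IsMat g D) : C = D :=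
  Prod.ext (hC.1.trans hD.1.symm) (by rw [hC.2, hD.2, hC.1, hD.1])

attribute [local irreducible] wordMat compMat oneMat

theorem exists_involution {v w : leechLattice} (hv : sqNorm (v : GolayPt → ℤ) = 48) (hw : sqNorm (w : GolayPt → ℤ) = 48)
    (hvw : dotInt (v : GolayPt → ℤ) (w : GolayPt → ℤ) = -32) :
    ∃ g : Co0, g • v = v ∧ g • w = w ∧ orderOf g = 2 ∧ ∀ x ∈ pickL [(v, (24 : ℤ)), (w, -24)], g • x ≠ x := by
  obtain ⟨f1, f2, f3⟩ := inv_facts
  obtain ⟨t, hM, ht⟩ : ∃ t : Co0, IsMat t (wordMat hsMats invWord) ∧ t ∈ fixers testsA :=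
    ⟨_, isMat_word isMat_hs invWord, wordElt_mem hsElts_fix invWord⟩
  have ht2 : t * t = 1 := by
    have h' := isMat_mul hM hM
    rw [f2] at h'
    exact eq_one_of_mat h'
  have ht1 : t ≠ 1 := by
    intro h
    rw [h] at hM
    exact f1 (isMat_unique hM isMat_one)
  obtain ⟨g, h1, h2⟩ := normal_hs hv hw hvw
  have hm := moveT_pair h1 h2
  have hmem := conj_fixers hm ht
  refine ⟨g⁻¹ * t * g, hmem (v, 24) (by simp), hmem (w, -24) (by simp), ?_, fun x hx e => ?_⟩
  · refine orderOf_eq_prime ?_ fun h => ht1 ?_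
    · rw [sq, show g⁻¹ * t * g * (g⁻¹ * t * g) = g⁻¹ * (t * t) * g by group, ht2]; group
    · have := congrArg (fun a => g * a * g⁻¹) h
      simpa [mul_assoc] using this
  · have hy : g • x ∈ pickL testsA := hm ▸ mem_pickL_move.2 hx
    have hX := (mem_chosen_iff testsOKA).2 ⟨g • x, pickL_eq testsA ▸ hy, rfl⟩
    have h3 := List.all_eq_true.1 f3 _ hX
    rw [step_enc hM (by rw [hy.1]; norm_num)] at h3
    have e' : t • (g • x) = g • x := by
      conv_rhs => rw [← e]
      rw [mul_smul, mul_smul, smul_inv_smul]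
    rw [e'] at h3
    simp [Nat.beq_eq] at h3

end CfsgLib.Spor.Leech.Census32
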