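/-
The decompositions of a vector of norm 48 and the configurations on 275 and 2025 minimal vectors.
-/
import Cfsg.Agent.Lib.Spor.Leech.Census.Transfer
import Cfsg.Agent.Lib.Spor.Leech.Census.Data.OrbB
import Cfsg.Agent.Lib.Spor.Leech.Census.Data.OrbBEight
import Cfsg.Agent.Lib.Spor.Leech.Census.Data.OrbBSixteen
import Cfsg.Agent.Lib.Spor.Leech.Census.Data.OrbC
import Cfsg.Agent.Lib.Spor.Leech.Census.Data.OrbCZero
import Cfsg.Agent.Lib.Spor.Leech.Census.Data.OrbCSixteen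
import Cfsg.Agent.Lib.Spor.Leech.Census.Data.OrbCEight

set_option autoImplicit false

namespace CfsgLib.Spor.Leech.Census32

open Cfsg MulAction

theorem mclElts_fix : (∀ g ∈ mclElts, g ∈ fixers testsB) ∧ ∀ g ∈ mclElts, g ∈ fixers testsC :=
  ⟨mem_fixers_of isMat_mcl (us := [enc (u3L : GolayPt → ℤ), enc (v1L : GolayPt → ℤ)]) rfl rfl
    (by simp only [testsB, List.forall_mem_cons]
        exact ⟨by decide +kernel, by decide +kernel, fun _ h => absurd h List.not_mem_nil⟩)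
    (by decide +kernel),
  mem_fixers_of isMat_mcl (us := [enc (v1L : GolayPt → ℤ), enc (w1L : GolayPt → ℤ)]) rfl rfl
    (by simp only [testsC, List.forall_mem_cons]
        exact ⟨by decide +kernel, by decide +kernel, fun _ h => absurd h List.not_mem_nil⟩)
    (by decide +kernel)⟩

theorem uFourElts_fix : ∀ g ∈ uFourElts, ∀ n : ℤ, g ∈ fixers (testsB ++ [(xBL, n)]) := fun g hg n =>
  mem_fixers_of isMat_uFour (us := [enc (u3L : GolayPt → ℤ), enc (v1L : GolayPt → ℤ), enc (xBL : GolayPt → ℤ)]) rfl rfl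
    (by simp only [testsB, List.cons_append, List.nil_append, List.forall_mem_cons]
        exact ⟨by decide +kernel, by decide +kernel, by decide +kernel, fun _ h => absurd h List.not_mem_nil⟩)
    (by decide +kernel) g hg

theorem triElts_fix : ∀ g ∈ triElts, ∀ n : ℤ, g ∈ fixers (testsC ++ [(xCL, n)]) := fun g hg n =>
  mem_fixers_of isMat_tri (us := [enc (v1L : GolayPt → ℤ), enc (w1L : GolayPt → ℤ), enc (xCL : GolayPt → ℤ)]) rfl rfl
    (by simp only [testsC, List.cons_append, List.nil_append, List.forall_mem_cons]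
        exact ⟨by decide +kernel, by decide +kernel, by decide +kernel, fun _ h => absurd h List.not_mem_nil⟩)
    (by decide +kernel) g hg

theorem transB : ∀ y ∈ pickL testsB, ∃ k ∈ fixers testsB, k • xBL = y := reachB mclElts_fix.1

theorem transC : ∀ y ∈ pickL testsC, ∃ k ∈ fixers testsC, k • xCL = y := reachC mclElts_fix.2

theorem norm_marks : sqNorm (u3L : GolayPt → ℤ) = 48 ∧ sqNorm (v1L : GolayPt → ℤ) = 32 ∧
    sqNorm (w1L : GolayPt → ℤ) = 32 ∧ dotInt (v1L : GolayPt → ℤ) (w1L : GolayPt → ℤ) = -8 ∧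
    sqNorm ((u3L - v1L : leechLattice) : GolayPt → ℤ) = 32 := by decide +kernel

theorem normal_mcl {u v : leechLattice} (hu : sqNorm (u : GolayPt → ℤ) = 48)
    (hv : sqNorm (v : GolayPt → ℤ) = 32 ∧ sqNorm ((u - v : leechLattice) : GolayPt → ℤ) = 32) (m n : ℤ) :
    ∃ g : Co0, moveT g [(u, m), (v, n)] = [(u3L, m), (v1L, n)] := by
  obtain ⟨a, b, -, -, c⟩ := norm_marks
  obtain ⟨g, hg⟩ := transitive_norm (x := u) (y := u3L) (Or.inr (Or.inl hu)) (a.trans hu.symm)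
  obtain ⟨k, k1, k2⟩ := decomposition_transitive (u := u3L) (v := g • v) (v' := v1L) a
    ⟨(co0_norm g v).trans hv.1, by rw [← hg, ← co0_sub, co0_norm]; exact hv.2⟩ ⟨b, c⟩
  exact ⟨k * g, by simp [moveT, mul_smul, hg, k1, k2]⟩

theorem normal_tri {v w : leechLattice} (hv : sqNorm (v : GolayPt → ℤ) = 32) (hw : sqNorm (w : GolayPt → ℤ) = 32)
    (hvw : dotInt (v : GolayPt → ℤ) (w : GolayPt → ℤ) = -8) :
    ∃ g : Co0, moveT g [(v, (0 : ℤ)), (w, 16)] = testsC := by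
  obtain ⟨-, a, b, c, -⟩ := norm_marks
  obtain ⟨g, g1, g2⟩ := form8 hv hw hvw
  obtain ⟨g', g1', g2'⟩ := form8 a b c
  exact ⟨g'⁻¹ * g, by simp [moveT, testsC, mul_smul, g1, g2, inv_smul_eq_iff, g1', g2']⟩

theorem mcl_points {u v : leechLattice} (hu : sqNorm (u : GolayPt → ℤ) = 48)
    (hv : sqNorm (v : GolayPt → ℤ) = 32 ∧ sqNorm ((u - v : leechLattice) : GolayPt → ℤ) = 32) :
    (pickL [(u, (24 : ℤ)), (v, 16)]).ncard = 275 ∧ ∀ x ∈ pickL [(u, (24 : ℤ)), (v, 16)],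
      ∀ x' ∈ pickL [(u, (24 : ℤ)), (v, 16)], ∃ k : Co0, k • u = u ∧ k • v = v ∧ k • x = x' := by
  obtain ⟨g, hg⟩ := normal_mcl hu hv 24 16
  have hg' : moveT g [(u, (24 : ℤ)), (v, 16)] = testsB := hg
  refine ⟨by rw [ncard_move hg', ncardB], fun x hx x' hx' => ?_⟩
  obtain ⟨k, hk, e⟩ := trans_move hg' transB hx hx'
  exact ⟨k, hk (u, 24) (by simp), hk (v, 16) (by simp), e⟩

theorem mcl_slices {u v x : leechLattice} (hu : sqNorm (u : GolayPt → ℤ) = 48)
    (hv : sqNorm (v : GolayPt → ℤ) = 32 ∧ sqNorm ((u - v : leechLattice) : GolayPt → ℤ) = 32)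
    (hx : x ∈ pickL [(u, (24 : ℤ)), (v, 16)]) :
    (pickL ([(u, (24 : ℤ)), (v, 16)] ++ [(x, 8)])).ncard = 112 ∧
    (pickL ([(u, (24 : ℤ)), (v, 16)] ++ [(x, 16)])).ncard = 162 ∧
    (∀ y ∈ pickL [(u, (24 : ℤ)), (v, 16)], y ≠ x → dotInt (x : GolayPt → ℤ) (y : GolayPt → ℤ) = 8 ∨
      dotInt (x : GolayPt → ℤ) (y : GolayPt → ℤ) = 16) ∧
    ∀ n : ℤ, n = 8 ∨ n = 16 → ∀ y ∈ pickL ([(u, (24 : ℤ)), (v, 16)] ++ [(x, n)]),
      ∀ y' ∈ pickL ([(u, (24 : ℤ)), (v, 16)] ++ [(x, n)]), ∃ k : Co0, k • u = u ∧ k • v = v ∧ k • x = x ∧ k • y = y' := by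
  obtain ⟨g, hg⟩ := normal_mcl hu hv 24 16
  obtain ⟨g', e, e'⟩ := move_to_rep (T0 := testsB) hg memB transB hx
  have em : ∀ n : ℤ, moveT g' ([(u, (24 : ℤ)), (v, 16)] ++ [(x, n)]) = testsB ++ [(xBL, n)] := fun n => by
    rw [moveT_append, e]; simp [moveT, e']
  have c8 : (pickL ([(u, (24 : ℤ)), (v, 16)] ++ [(x, 8)])).ncard = 112 := by
    rw [ncard_move (em 8)]; exact ncardBEight
  have c16 : (pickL ([(u, (24 : ℤ)), (v, 16)] ++ [(x, 16)])).ncard = 162 := by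
    rw [ncard_move (em 16)]; exact ncardBSixteen
  have c := (mcl_points hu hv).1
  refine ⟨c8, c16, fun y hy hne => ?_, ?_⟩
  · obtain ⟨n, hn, h⟩ := cover hx [8, 16] (by decide) (by decide)
      (by simp only [List.map_cons, List.map_nil, List.sum_cons, List.sum_nil, c8, c16, c] <;> norm_num) (Set.finite_of_ncard_pos (by rw [c]; norm_num)) hy hne
    rw [mem_snoc] at h
    simp only [List.mem_cons, List.not_mem_nil, or_false] at hn
    rcases hn with rfl | rfl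
    · exact Or.inl h.2
    · exact Or.inr h.2
  · intro n hn y hy y' hy'
    have key : ∀ {x0 : leechLattice}, (∀ z ∈ pickL (testsB ++ [(xBL, n)]), ∃ k ∈ fixers (testsB ++ [(xBL, n)]), k • x0 = z) →
        ∃ k : Co0, k • u = u ∧ k • v = v ∧ k • x = x ∧ k • y = y' := fun h => by
      obtain ⟨k, hk, ek⟩ := trans_move (em n) h hy hy'
      exact ⟨k, hk (u, 24) (by simp), hk (v, 16) (by simp), hk (x, n) (by simp), ek⟩
    rcases hn with rfl | rfl
    · exact key (reachBEight fun a ha => uFourElts_fix a ha 8)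
    · exact key (reachBSixteen fun a ha => uFourElts_fix a ha 16)

theorem tri_points {v w : leechLattice} (hv : sqNorm (v : GolayPt → ℤ) = 32) (hw : sqNorm (w : GolayPt → ℤ) = 32)
    (hvw : dotInt (v : GolayPt → ℤ) (w : GolayPt → ℤ) = -8) :
    (pickL [(v, (0 : ℤ)), (w, 16)]).ncard = 2025 ∧ (∀ x ∈ pickL [(v, (0 : ℤ)), (w, 16)],
      ∀ x' ∈ pickL [(v, (0 : ℤ)), (w, 16)], ∃ k : Co0, k • v = v ∧ k • w = w ∧ k • x = x') ∧
    ∀ x ∈ pickL [(v, (0 : ℤ)), (w, 16)], ∀ S : Subgroup Co0,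
      (∀ k, k ∈ S ↔ k ∈ fixers [(v, (0 : ℤ)), (w, 16)] ∧ k • x = x) →
      (∃ y ∈ pickL [(v, (0 : ℤ)), (w, 16)], (orbit S y).ncard = 330) ∧
      (∃ y ∈ pickL [(v, (0 : ℤ)), (w, 16)], (orbit S y).ncard = 462) ∧
      ∃ y ∈ pickL [(v, (0 : ℤ)), (w, 16)], (orbit S y).ncard = 1232 := by
  obtain ⟨g, hg⟩ := normal_tri hv hw hvw
  refine ⟨by rw [ncard_move hg, ncardC], fun x hx x' hx' => ?_, fun x hx S hS => ?_⟩
  · obtain ⟨k, hk, e⟩ := trans_move hg transC hx hx'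
    exact ⟨k, hk (v, 0) (by simp), hk (w, 16) (by simp), e⟩
  obtain ⟨g', e, e'⟩ := move_to_rep hg memC transC hx
  have em : ∀ n : ℤ, moveT g' ([(v, (0 : ℤ)), (w, 16)] ++ [(x, n)]) = testsC ++ [(xCL, n)] := fun n => by
    rw [moveT_append, e]; simp [moveT, e']
  refine ⟨?_, ?_, ?_⟩
  · obtain ⟨y, a, b, -⟩ := orbit_moved (em 0) ncardCZero memCZero (reachCZero fun a ha => triElts_fix a ha 0) hS
    exact ⟨y, a, b⟩
  · obtain ⟨y, a, b, -⟩ := orbit_moved (em 16) ncardCSixteen memCSixteen (reachCSixteen fun a ha => triElts_fix a ha 16) hS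
    exact ⟨y, a, b⟩
  · obtain ⟨y, a, b, -⟩ := orbit_moved (em 8) ncardCEight memCEight (reachCEight fun a ha => triElts_fix a ha 8) hS
    exact ⟨y, a, b⟩

end CfsgLib.Spor.Leech.Census32
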